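import Cfsg.Agent.Lib.BlockA.LocalFive.Twist

/-!
Two generators with two dimensions in degrees two and three: in suitable coordinates both
squares vanish in degree two.
-/

set_option autoImplicit false
set_option linter.unusedSectionVars false

namespace CfsgLib.BlockA.LocalFive

open Module

variable {k V R₂ R₃ : Type*} [Field k] [AddCommGroup V] [Module k V] [AddCommGroup R₂]
  [Module k R₂] [AddCommGroup R₃] [Module k R₃] [FiniteDimensional k V] [FiniteDimensional k R₂]
  [FiniteDimensional k R₃]

namespace Triple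

variable (T : Triple k V R₂ R₃)

/-- If every left multiplication has rank at most one, a right multiplication is onto. -/
theorem exists_surjective_or (h2 : finrank k R₂ = 2) :
    ∃ x, Function.Surjective (T.mul x) ∨ Function.Surjective (T.flip.mul x) := by
  classical
  by_cases hx : ∃ x, Function.Surjective (T.mul x)
  · obtain ⟨x, hx⟩ := hx
    exact ⟨x, Or.inl hx⟩
  push Not at hx
  have hrk : ∀ x, finrank k (LinearMap.range (T.mul x)) ≤ 1 := fun x => by
    have := Submodule.finrank_lt (fun h => hx x (LinearMap.range_eq_top.1 h))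
    omega
  have hS : ∀ x ∈ (Set.univ : Set V), ∃ r, ∀ w, T.mul x w ∈ Submodule.span k {r} := by
    intro x _
    obtain ⟨r, hr⟩ := finrank_le_one_iff.1 (hrk x)
    exact ⟨r, fun w => by
      obtain ⟨c, hc⟩ := hr ⟨T.mul x w, ⟨w, rfl⟩⟩
      exact Submodule.mem_span_singleton.2 ⟨c, congrArg Subtype.val hc⟩⟩
  have hline : ∀ r, ∃ x ∈ (Set.univ : Set V), ∃ w, T.mul x w ∉ Submodule.span k {r} := by
    intro r
    by_contra h
    push Not at h
    have hlt : Submodule.span k {r} < ⊤ := lt_top_iff_ne_top.2 fun ht => by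
      have h1 := finrank_span_le_card (R := k) ({r} : Set R₂)
      rw [Set.toFinset_singleton, Finset.card_singleton, ht, finrank_top, h2] at h1
      omega
    obtain ⟨f, hf0, hf⟩ := Submodule.exists_dual_map_eq_bot_of_lt_top hlt inferInstance
    refine hf0 (T.span2 f fun u w => ?_)
    have h' := Submodule.mem_map_of_mem (f := f) (h u trivial w)
    rwa [hf, Submodule.mem_bot] at h'
  obtain ⟨x, -, w, hw⟩ := hline 0
  have hne : ∃ w, T.mul x w ≠ 0 := ⟨w, fun h => hw (by rw [h]; exact zero_mem _)⟩
  set K := LinearMap.ker (T.mul x) with hK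
  have hKmul : ∀ u, ∀ p ∈ K, T.mul u p = 0 := fun u p hp =>
    ker_common T.mul Set.univ hS (fun _ _ _ _ => ⟨1, one_ne_zero, trivial⟩) hline trivial
      (LinearMap.mem_ker.1 hp) hne trivial
  have hw0 : w ∉ K := fun h => hw (by rw [LinearMap.mem_ker.1 h]; exact zero_mem _)
  have htop : K ⊔ Submodule.span k {w} = ⊤ := by
    refine Submodule.eq_top_of_finrank_eq (le_antisymm (Submodule.finrank_le _) ?_)
    have h := LinearMap.finrank_range_add_finrank_ker (T.mul x)
    rw [← hK] at h
    have hlt : K < K ⊔ Submodule.span k {w} :=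
      lt_of_le_of_ne le_sup_left fun h => hw0 (h ▸ Submodule.mem_sup_right
        (Submodule.mem_span_singleton_self w))
    have := Submodule.finrank_lt_finrank_of_lt hlt
    have := hrk x
    omega
  refine ⟨w, Or.inr (LinearMap.range_eq_top.1 ?_)⟩
  by_contra hr
  obtain ⟨f, hf0, hf⟩ := Submodule.exists_dual_map_eq_bot_of_lt_top
    (lt_top_iff_ne_top.2 hr) inferInstance
  refine hf0 (T.span2 f fun u v => ?_)
  obtain ⟨p, hp, q, hq, rfl⟩ := Submodule.mem_sup.1 (htop ▸ Submodule.mem_top : v ∈ K ⊔ _)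
  obtain ⟨c, rfl⟩ := Submodule.mem_span_singleton.1 hq
  have h' := Submodule.mem_map_of_mem (f := f)
    (Submodule.smul_mem _ c ⟨u, rfl⟩ : c • T.flip.mul w u ∈ LinearMap.range (T.flip.mul w))
  rw [hf, Submodule.mem_bot, flip_mul] at h'
  rw [map_add, map_smul, hKmul u p hp, zero_add, h']

variable [IsAlgClosed k]

theorem exists_square_zero_of_surjective (hV : finrank k V = 2) (h2 : finrank k R₂ = 2)
    (hc3 : T.Comm3) (h3 : 2 ≤ finrank k R₃) {x : V} (hx : Function.Surjective (T.mul x)) :
    ∃ p q, LinearIndependent k ![p, q] ∧ T.mul p p = 0 ∧ T.mul q q = 0 := by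
  classical
  obtain ⟨S, rfl⟩ := T.exists_twist (hV.trans h2.symm) (by omega) hx
  have hx0 : S.x ≠ 0 := fun h => by
    obtain ⟨r, hr⟩ : ∃ r : R₂, r ≠ 0 :=
      Module.finrank_pos_iff_exists_ne_zero.1 (by omega : 0 < finrank k R₂)
    obtain ⟨v, rfl⟩ := hx r
    exact hr (by rw [h, map_zero, LinearMap.zero_apply])
  have pairSpan : ∀ {y z : V}, LinearIndependent k ![y, z] → ∀ u, ∃ α β : k, u = α • y + β • z := by
    intro y z h u
    have ht := h.span_eq_top_of_card_eq_finrank (by simp [hV])
    rw [Matrix.range_cons, Matrix.range_cons, Matrix.range_empty, Set.union_empty,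
      Set.singleton_union] at ht
    obtain ⟨α, β, e⟩ := Submodule.mem_span_pair.1 (ht ▸ Submodule.mem_top : u ∈ _)
    exact ⟨α, β, e.symm⟩
  have hann : ∀ a, (∀ v, T.mul a v = 0) → a = 0 := by
    intro a ha
    by_contra ha0
    have hind : LinearIndependent k ![S.x, a] := (LinearIndependent.pair_iff' hx0).2 fun c hc => by
      have h := ha S.x
      rw [← hc, map_smul, LinearMap.smul_apply, smul_eq_zero] at h
      rcases h with h | h
      · exact ha0 (by rw [← hc, h, zero_smul])
      · exact hx0 (S.e.injective (by rw [S.e_apply, h, map_zero]))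
    have hφa : ∀ v, S.φ a v = 0 := fun v => S.e.injective (by
      rw [S.e_apply, ← S.mul_eq, ha, map_zero])
    let b := basisOfLinearIndependentOfCardEqFinrank hind (by simp [hV])
    let g : V →ₗ[k] k := b.coord 0
    have hgx : g S.x = 1 := by
      have : b 0 = S.x := by simp [b]
      simp [g, ← this]
    have hga : g a = 0 := by
      have : b 1 = a := by simp [b]
      simp [g, ← this]
    have hφ : ∀ u v, S.φ u v = g u • v := by
      intro u v
      obtain ⟨α, β, rfl⟩ := pairSpan hind u
      simp [S.φ_x, hφa, hgx, hga]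
    have h0 := S.cyclic_eq_zero hc3 g fun u v w => by
      simp only [S.σ_apply, hφ, map_smul, LinearMap.smul_apply, smul_eq_mul, hgx]
      ring
    simpa [hgx] using LinearMap.congr_fun h0 S.x
  -- a common eigenvector of all the twisted multiplications
  obtain ⟨y, hy⟩ : ∃ y, LinearIndependent k ![S.x, y] :=
    exists_linearIndependent_pair_of_one_lt_finrank (by omega) hx0
  have : Nontrivial V := nontrivial_of_ne _ _ hx0
  obtain ⟨μ, hμ⟩ := Module.End.exists_eigenvalue (S.φ y)
  obtain ⟨b, hb, hb0⟩ := hμ.exists_hasEigenvector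
  rw [Module.End.mem_eigenspace_iff] at hb
  have hφ : ∀ u, ∃ c : k, S.φ u b = c • b := fun u => by
    obtain ⟨α, β, rfl⟩ := pairSpan hy u
    exact ⟨α + β * μ, by simp [S.φ_x, hb, add_smul, mul_smul]⟩
  obtain ⟨g, hg⟩ : ∃ g : V →ₗ[k] k, g b = 1 := by
    obtain ⟨f, hf⟩ : ∃ f : V →ₗ[k] k, f b ≠ 0 := by
      by_contra h
      push Not at h
      exact hb0 (dual_separates h)
    exact ⟨(f b)⁻¹ • f, by rw [LinearMap.smul_apply, smul_eq_mul, inv_mul_cancel₀ hf]⟩
  set l : V →ₗ[k] k := g ∘ₗ S.φ.flip b
  have hlb : ∀ u, S.φ u b = l u • b := fun u => by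
    obtain ⟨c, hc⟩ := hφ u
    simp [l, hc, hg]
  have hl1 : l S.x = 1 := by simp [l, S.φ_x, hg]
  have hl : ∀ u v, l (S.φ u v) = l (S.σ u) * l v := fun u v => by
    have e1 : S.φ (S.φ u v) b = (l (S.σ u) * l v) • b := by
      rw [S.hom, hlb, map_smul, hlb, smul_smul, mul_comm]
    simpa [hg] using congrArg g ((hlb (S.φ u v)).symm.trans e1)
  have h1 := S.not_fixed_one l hl1 hl hc3
  have hind : LinearIndependent k ![l, S.lam l 1] := by
    rw [LinearIndependent.pair_iff]
    intro s r h
    exact S.indep_one l hl1 hl hann h1 fun v => by simpa using LinearMap.congr_fun h v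
  have h2' : S.lam l 2 = l := by
    have ht := hind.span_eq_top_of_card_eq_finrank (by
      rw [Fintype.card_fin, Subspace.dual_finrank_eq, hV])
    rw [Matrix.range_cons, Matrix.range_cons, Matrix.range_empty, Set.union_empty,
      Set.singleton_union] at ht
    obtain ⟨α, β, e⟩ := Submodule.mem_span_pair.1 (ht ▸ Submodule.mem_top : S.lam l 2 ∈ _)
    exact S.two_eq l hl1 hl hann h1 (a := α) (b := β) fun v => by
      simpa using (LinearMap.congr_fun e v).symm
  -- the dual basis
  let F : V →ₗ[k] k × k := l.prod (S.lam l 1)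
  have hFinj : Function.Injective F := by
    refine (injective_iff_map_eq_zero F).2 fun v hv => dual_separates (k := k) fun f => ?_
    have ht := hind.span_eq_top_of_card_eq_finrank (by
      rw [Fintype.card_fin, Subspace.dual_finrank_eq, hV])
    rw [Matrix.range_cons, Matrix.range_cons, Matrix.range_empty, Set.union_empty,
      Set.singleton_union] at ht
    obtain ⟨α, β, e⟩ := Submodule.mem_span_pair.1 (ht ▸ Submodule.mem_top : f ∈ _)
    have ha : l v = 0 := congrArg Prod.fst hv
    have hb : S.lam l 1 v = 0 := congrArg Prod.snd hv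
    rw [← e]
    simp [ha, hb]
  have hFsurj : Function.Surjective F :=
    (LinearMap.injective_iff_surjective_of_finrank_eq_finrank (by simp [hV])).1 hFinj
  obtain ⟨p, hp⟩ := hFsurj (1, 0)
  obtain ⟨q, hq⟩ := hFsurj (0, 1)
  have hp0 : l p = 1 := congrArg Prod.fst hp
  have hp1 : S.lam l 1 p = 0 := congrArg Prod.snd hp
  have hq0 : l q = 0 := congrArg Prod.fst hq
  have hq1 : S.lam l 1 q = 1 := congrArg Prod.snd hq
  have e0 : ∀ u v, l (S.φ u v) = S.lam l 1 u * l v := fun u v => by
    rw [hl, Twist.lam_succ, S.lam_zero]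
  have e1 : ∀ u v, S.lam l 1 (S.φ u v) = l u * S.lam l 1 v := fun u v => by
    rw [S.lam_mul l hl1 hl 1, h2']
  have hzero : ∀ v, l v = 0 → S.lam l 1 v = 0 → v = 0 := fun v h0 h1 =>
    hFinj (by rw [map_zero]; exact Prod.ext h0 h1)
  refine ⟨p, q, ?_, ?_, ?_⟩
  · rw [LinearIndependent.pair_iff]
    intro s r h
    have h' := congrArg F h
    rw [map_add, map_smul, map_smul, map_zero, hp, hq] at h'
    exact ⟨by simpa using congrArg Prod.fst h', by simpa using congrArg Prod.snd h'⟩
  · rw [S.mul_eq, hzero (S.φ p p) (by rw [e0, hp1, zero_mul]) (by rw [e1, hp1, mul_zero]), map_zero]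
  · rw [S.mul_eq, hzero (S.φ q q) (by rw [e0, hq0, mul_zero]) (by rw [e1, hq0, zero_mul]), map_zero]

/-- **Two generators.** -/
theorem exists_square_zero (hV : finrank k V = 2) (h2 : finrank k R₂ = 2) (hc3 : T.Comm3)
    (h3 : 2 ≤ finrank k R₃) :
    ∃ p q, LinearIndependent k ![p, q] ∧ T.mul p p = 0 ∧ T.mul q q = 0 := by
  obtain ⟨x, hx | hx⟩ := T.exists_surjective_or h2
  · exact T.exists_square_zero_of_surjective hV h2 hc3 h3 hx
  · exact T.flip.exists_square_zero_of_surjective hV h2 (T.comm3_flip hc3) h3 hx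

end Triple

end CfsgLib.BlockA.LocalFive
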