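import Cfsg.Agent.Lib.BlockA.LocalFive.Rules
import Cfsg.Agent.Lib.BlockA.LocalFive.Two

/-!
A local symmetric algebra with two generators and centre of dimension at most five is
commutative or has dimension at most ten.
-/

set_option autoImplicit false
set_option linter.unusedSectionVars false

namespace CfsgLib.BlockA.LocalFive

open Module Submodule LocalCentre

variable {k A : Type*} [Field k] [Ring A] [Algebra k A] [FiniteDimensional k A]

/-- In an algebra generated by `p` and `q`, every commutator is a combination of commutators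
with `p` and with `q`. -/
theorem comms_le_range {p q : A} (h : Algebra.adjoin k {p, q} = ⊤) {w : A}
    (hw : w ∈ comms k A) : ∃ X Y : A, w = (p * X - X * p) + (q * Y - Y * q) := by
  set R : Submodule k A := LinearMap.range (LinearMap.mulLeft k p - LinearMap.mulRight k p) ⊔
    LinearMap.range (LinearMap.mulLeft k q - LinearMap.mulRight k q) with hR
  have hall : ∀ a c : A, a * c - c * a ∈ R := by
    intro a
    have ha : a ∈ Algebra.adjoin k ({p, q} : Set A) := h ▸ Algebra.mem_top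
    induction ha using Algebra.adjoin_induction with
    | mem x hx =>
      intro c
      rcases hx with rfl | rfl
      · exact mem_sup_left ⟨c, rfl⟩
      · exact mem_sup_right ⟨c, rfl⟩
    | algebraMap r => intro c; rw [Algebra.commutes, sub_self]; exact zero_mem _
    | add a b _ _ ha hb =>
      intro c
      rw [show (a + b) * c - c * (a + b) = (a * c - c * a) + (b * c - c * b) by
        simp only [mul_add, add_mul]; abel]
      exact add_mem (ha c) (hb c)
    | mul a b _ _ ha hb =>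
      intro c
      rw [show a * b * c - c * (a * b) = (a * (b * c) - b * c * a) + (b * (c * a) - c * a * b) by
        simp only [mul_assoc]; abel]
      exact add_mem (ha _) (hb _)
  have hwR : w ∈ R := by
    refine (span_le.2 ?_) hw
    rintro _ ⟨⟨a, b⟩, rfl⟩
    exact hall a b
  obtain ⟨_, ⟨X, rfl⟩, _, ⟨Y, rfl⟩, e⟩ := mem_sup.1 hwR
  exact ⟨X, Y, by simpa using e.symm⟩

variable (ε : A →ₐ[k] k) (hnil : ∀ x, ε x = 0 → IsNilpotent x) (t : A →ₗ[k] k)
  (hsymm : ∀ x y, t (x * y) = t (y * x)) (hnd : ∀ x, (∀ y, t (x * y) = 0) → x = 0)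

/-- With `p ^ 2`, `q ^ 2` in degree three, the commutators of degree four are one line. -/
theorem comms_inf_four {p q : A} (hp : p ∈ aug ε) (hq : q ∈ aug ε)
    (hgen : aug ε ≤ span k {p, q} ⊔ aug ε ^ 2) (hN : ∃ N : ℕ, aug ε ^ N = ⊥)
    (hpp : p * p ∈ aug ε ^ 3) (hqq : q * q ∈ aug ε ^ 3) (hc : p * q - q * p ∉ aug ε ^ 3)
    (h3 : 2 ≤ finrank k (Piece ε 3)) {w : A} (hw : w ∈ comms k A) (hw4 : w ∈ aug ε ^ 4) :
    w ∈ span k {p * (q * p * q) - q * p * q * p} ⊔ aug ε ^ 5 := by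
  have hp1 := (mem_aug_pow_one ε).2 hp
  have hq1 := (mem_aug_pow_one ε).2 hq
  have h12 : ∀ {a b : A}, a ∈ aug ε → b ∈ aug ε → a * b ∈ aug ε ^ 2 := fun ha hb =>
    mem_pow_mul ε (i := 1) (j := 1) rfl ((mem_aug_pow_one ε).2 ha) ((mem_aug_pow_one ε).2 hb)
  -- degree two is spanned by the mixed products
  have hsq : aug ε ^ 2 ≤ span k {p * q, q * p} ⊔ aug ε ^ 3 := by
    rw [pow_two, Submodule.mul_le]
    intro a ha b hb
    obtain ⟨a₁, ha₁, a₂, ha₂, rfl⟩ := mem_sup.1 (hgen ha)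
    obtain ⟨b₁, hb₁, b₂, hb₂, rfl⟩ := mem_sup.1 (hgen hb)
    obtain ⟨α, β, rfl⟩ := mem_span_pair.1 ha₁
    obtain ⟨α', β', rfl⟩ := mem_span_pair.1 hb₁
    rw [show (α • p + β • q + a₂) * (α' • p + β' • q + b₂) =
      ((α * β') • (p * q) + (β * α') • (q * p)) + (((α * α') • (p * p) + (β * β') • (q * q)) +
        ((α • p + β • q) * b₂ + a₂ * (α' • p + β' • q + b₂))) by
      simp only [mul_add, add_mul, smul_mul_assoc, mul_smul_comm, smul_smul, smul_add]
      module]
    refine add_mem_sup (add_mem (smul_mem _ _ (subset_span (by simp)))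
      (smul_mem _ _ (subset_span (by simp)))) (add_mem (add_mem (smul_mem _ _ hpp)
        (smul_mem _ _ hqq)) (add_mem ?_ ?_))
    · exact mem_pow_mul ε (i := 1) rfl
        ((mem_aug_pow_one ε).2 (add_mem (smul_mem _ _ hp) (smul_mem _ _ hq))) hb₂
    · exact mem_pow_mul ε (j := 1) rfl ha₂ ((mem_aug_pow_one ε).2 hb)
  -- degree three is spanned by the alternating products
  have hcube : aug ε ^ 3 ≤ span k {p * q * p, q * p * q} ⊔ aug ε ^ 4 := by
    rw [pow_succ, Submodule.mul_le]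
    intro a ha b hb
    obtain ⟨a₁, ha₁, a₂, ha₂, rfl⟩ := mem_sup.1 (hsq ha)
    obtain ⟨b₁, hb₁, b₂, hb₂, rfl⟩ := mem_sup.1 (hgen hb)
    obtain ⟨α, β, rfl⟩ := mem_span_pair.1 ha₁
    obtain ⟨α', β', rfl⟩ := mem_span_pair.1 hb₁
    rw [show (α • (p * q) + β • (q * p) + a₂) * (α' • p + β' • q + b₂) =
      ((α * α') • (p * q * p) + (β * β') • (q * p * q)) +
        (((α * β') • (p * (q * q)) + (β * α') • (q * (p * p))) +
        ((α • (p * q) + β • (q * p)) * b₂ + a₂ * (α' • p + β' • q + b₂))) by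
      simp only [mul_add, add_mul, smul_mul_assoc, mul_smul_comm, smul_smul, smul_add, mul_assoc]
      module]
    refine add_mem_sup (add_mem (smul_mem _ _ (subset_span (by simp)))
      (smul_mem _ _ (subset_span (by simp)))) (add_mem (add_mem (smul_mem _ _ ?_)
        (smul_mem _ _ ?_)) (add_mem ?_ ?_))
    · exact mem_pow_mul ε (i := 1) rfl hp1 hqq
    · exact mem_pow_mul ε (i := 1) rfl hq1 hpp
    · exact mem_pow_mul ε (i := 2) rfl
        (add_mem (smul_mem _ _ (h12 hp hq)) (smul_mem _ _ (h12 hq hp))) hb₂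
    · exact mem_pow_mul ε (j := 1) rfl ha₂ ((mem_aug_pow_one ε).2 hb)
  have h21 : ∀ {a b : A}, a ∈ aug ε ^ 2 → b ∈ aug ε → a * b ∈ aug ε ^ 3 := fun ha hb =>
    mem_pow_mul ε (j := 1) rfl ha ((mem_aug_pow_one ε).2 hb)
  have hp3 : p * q * p ∈ aug ε ^ 3 := h21 (h12 hp hq) hp
  have hq3 : q * p * q ∈ aug ε ^ 3 := h21 (h12 hq hp) hq
  have hind : ∀ a b : k, a • (p * q * p) + b • (q * p * q) ∈ aug ε ^ 4 → a = 0 ∧ b = 0 := by
    have hspan : (⊤ : Submodule k (Piece ε 3)) ≤
        span k (Set.range ![mkP ε 3 ⟨_, hp3⟩, mkP ε 3 ⟨_, hq3⟩]) := by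
      intro z _
      obtain ⟨⟨x, hx⟩, rfl⟩ := mkP_surjective ε 3 z
      obtain ⟨u, hu, s, hs, rfl⟩ := mem_sup.1 (hcube hx)
      obtain ⟨α, β, rfl⟩ := mem_span_pair.1 hu
      refine (Submodule.mem_span_range_iff_exists_fun k).2 ⟨![α, β], ?_⟩
      rw [Fin.sum_univ_two]
      simp only [Matrix.cons_val_zero, Matrix.cons_val_one]
      rw [← map_smul, ← map_smul, ← map_add, mkP_eq]
      simpa using hs
    have hli := linearIndependent_of_top_le_span_of_card_le_finrank hspan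
      (by rw [Fintype.card_fin]; exact h3)
    intro a b hab
    refine LinearIndependent.pair_iff.1 hli a b ?_
    rw [← map_smul, ← map_smul, ← map_add, mkP_eq_zero]
    exact hab
  -- the line
  set e := p * (q * p * q) - q * p * q * p with he
  set D : Submodule k A := span k {e} ⊔ aug ε ^ 5 with hD
  have heD : e ∈ D := mem_sup_left (subset_span rfl)
  have h14 : ∀ {a b : A}, a ∈ aug ε → b ∈ aug ε ^ 4 → a * b - b * a ∈ D := fun ha hb =>
    mem_sup_right (sub_mem (mem_pow_mul ε (i := 1) rfl ((mem_aug_pow_one ε).2 ha) hb)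
      (mem_pow_mul ε (j := 1) rfl hb ((mem_aug_pow_one ε).2 ha)))
  have hpD : ∀ x ∈ aug ε ^ 3, p * x - x * p ∈ D := by
    intro x hx
    obtain ⟨u, hu, s, hs, rfl⟩ := mem_sup.1 (hcube hx)
    obtain ⟨α, β, rfl⟩ := mem_span_pair.1 hu
    rw [show p * (α • (p * q * p) + β • (q * p * q) + s) -
      (α • (p * q * p) + β • (q * p * q) + s) * p =
        α • (p * p * (q * p) - p * q * (p * p)) + β • e + (p * s - s * p) by
      simp only [he, mul_add, add_mul, smul_mul_assoc, mul_smul_comm, mul_assoc, smul_sub]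
      module]
    refine add_mem (add_mem (smul_mem _ _ (mem_sup_right (sub_mem ?_ ?_))) (smul_mem _ _ heD))
      (h14 hp hs)
    · exact mem_pow_mul ε (j := 2) rfl hpp (h12 hq hp)
    · exact mem_pow_mul ε (i := 2) rfl (h12 hp hq) hpp
  have hqD : ∀ x ∈ aug ε ^ 3, q * x - x * q ∈ D := by
    intro x hx
    obtain ⟨u, hu, s, hs, rfl⟩ := mem_sup.1 (hcube hx)
    obtain ⟨α, β, rfl⟩ := mem_span_pair.1 hu
    rw [show q * (α • (p * q * p) + β • (q * p * q) + s) -
      (α • (p * q * p) + β • (q * p * q) + s) * q =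
        α • (-e) + β • (q * q * (p * q) - q * p * (q * q)) + (q * s - s * q) by
      simp only [he, mul_add, add_mul, smul_mul_assoc, mul_smul_comm, mul_assoc, smul_sub,
        smul_neg]
      module]
    refine add_mem (add_mem (smul_mem _ _ (neg_mem heD)) (smul_mem _ _ (mem_sup_right
      (sub_mem ?_ ?_)))) (h14 hq hs)
    · exact mem_pow_mul ε (j := 2) rfl hqq (h12 hp hq)
    · exact mem_pow_mul ε (i := 2) rfl (h12 hq hp) hqq
  have htop : Algebra.adjoin k ({p, q} : Set A) = ⊤ :=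
    adjoin_eq_top ε hN _ (by simp [Set.insert_subset_iff, hp, hq]) hgen
  obtain ⟨X, Y, rfl⟩ := comms_le_range htop hw
  have hdec : ∀ X : A, ∃ (a b : k) (X₂ : A), X₂ ∈ aug ε ^ 2 ∧
      p * X - X * p = b • (p * q - q * p) + (p * X₂ - X₂ * p) ∧
      q * X - X * q = -(a • (p * q - q * p)) + (q * X₂ - X₂ * q) := by
    intro X
    obtain ⟨u, hu, X₂, hX₂, eX⟩ := mem_sup.1 (hgen (sub_mem_aug ε X))
    obtain ⟨a, b, rfl⟩ := mem_span_pair.1 hu
    have hX : X = a • p + b • q + X₂ + algebraMap k A (ε X) := by rw [eX, sub_add_cancel]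
    refine ⟨a, b, X₂, hX₂, ?_, ?_⟩ <;>
    · conv_lhs => rw [hX]
      simp only [mul_add, add_mul, smul_mul_assoc, mul_smul_comm, smul_sub,
        Algebra.algebraMap_eq_smul_one, one_mul, mul_one]
      module
  obtain ⟨a, b, X₂, hX₂, eX, -⟩ := hdec X
  obtain ⟨a', b', Y₂, hY₂, -, eY⟩ := hdec Y
  rw [eX, eY] at hw4 ⊢
  have hcomm3 : ∀ {x y : A}, x ∈ aug ε → y ∈ aug ε ^ 2 → x * y - y * x ∈ aug ε ^ 3 := fun hx hy =>
    sub_mem (mem_pow_mul ε (i := 1) rfl ((mem_aug_pow_one ε).2 hx) hy) (h21 hy hx)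
  have hba : b = a' := by
    by_contra hne
    refine hc ((smul_mem_iff _ (sub_ne_zero.2 hne)).1 ?_)
    rw [show (b - a') • (p * q - q * p) = (b • (p * q - q * p) + (p * X₂ - X₂ * p) +
      (-(a' • (p * q - q * p)) + (q * Y₂ - Y₂ * q))) - (p * X₂ - X₂ * p) - (q * Y₂ - Y₂ * q) by
        rw [sub_smul]; abel]
    exact sub_mem (sub_mem (LocalCentre.pow_le_pow ε (by omega) (by omega) hw4)
      (hcomm3 hp hX₂)) (hcomm3 hq hY₂)
  rw [hba, show a' • (p * q - q * p) + (p * X₂ - X₂ * p) +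
    (-(a' • (p * q - q * p)) + (q * Y₂ - Y₂ * q)) =
      (p * X₂ - X₂ * p) + (q * Y₂ - Y₂ * q) by abel] at hw4 ⊢
  obtain ⟨u, hu, X₃, hX₃, rfl⟩ := mem_sup.1 (hsq hX₂)
  obtain ⟨u', hu', Y₃, hY₃, rfl⟩ := mem_sup.1 (hsq hY₂)
  obtain ⟨α, β, rfl⟩ := mem_span_pair.1 hu
  obtain ⟨γ, δ, rfl⟩ := mem_span_pair.1 hu'
  have h31 : ∀ {x y : A}, x ∈ aug ε → y ∈ aug ε ^ 3 → x * y - y * x ∈ aug ε ^ 4 := fun hx hy =>
    sub_mem (mem_pow_mul ε (i := 1) rfl ((mem_aug_pow_one ε).2 hx) hy)
      (mem_pow_mul ε (j := 1) rfl hy ((mem_aug_pow_one ε).2 hx))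
  have hαβ : β - α = 0 ∧ γ - δ = 0 := by
    refine hind _ _ ?_
    rw [show (β - α) • (p * q * p) + (γ - δ) • (q * p * q) =
      (p * (α • (p * q) + β • (q * p) + X₃) - (α • (p * q) + β • (q * p) + X₃) * p +
        (q * (γ • (p * q) + δ • (q * p) + Y₃) - (γ • (p * q) + δ • (q * p) + Y₃) * q)) -
      (α • (p * p * q) - β • (q * (p * p)) - γ • (p * (q * q)) + δ • (q * q * p) +
        (p * X₃ - X₃ * p) + (q * Y₃ - Y₃ * q)) by
      simp only [mul_add, add_mul, smul_mul_assoc, mul_smul_comm, mul_assoc, sub_smul]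
      module]
    refine sub_mem hw4 (add_mem (add_mem (add_mem (sub_mem (sub_mem (smul_mem _ _ ?_)
      (smul_mem _ _ ?_)) (smul_mem _ _ ?_)) (smul_mem _ _ ?_)) (h31 hp hX₃)) (h31 hq hY₃))
    · exact mem_pow_mul ε (j := 1) rfl hpp hq1
    · exact mem_pow_mul ε (i := 1) rfl hq1 hpp
    · exact mem_pow_mul ε (i := 1) rfl hp1 hqq
    · exact mem_pow_mul ε (j := 1) rfl hqq hp1
  obtain ⟨rfl, rfl⟩ : β = α ∧ γ = δ := ⟨sub_eq_zero.1 hαβ.1, sub_eq_zero.1 hαβ.2⟩
  rw [show p * (β • (p * q) + β • (q * p) + X₃) - (β • (p * q) + β • (q * p) + X₃) * p +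
      (q * (γ • (p * q) + γ • (q * p) + Y₃) - (γ • (p * q) + γ • (q * p) + Y₃) * q) =
    (-(β • (q * (p * p) - p * p * q)) + (p * X₃ - X₃ * p)) +
      (-(γ • (p * (q * q) - q * q * p)) + (q * Y₃ - Y₃ * q)) by
      simp only [mul_add, add_mul, smul_mul_assoc, mul_smul_comm, mul_assoc, smul_sub]
      module]
  exact add_mem (add_mem (neg_mem (smul_mem _ _ (hqD _ hpp))) (hpD _ hX₃))
    (add_mem (neg_mem (smul_mem _ _ (hpD _ hqq))) (hqD _ hY₃))

variable [IsAlgClosed k]
include hnil hsymm hnd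

/-- **Two generators.** -/
theorem comm_or_finrank_le_ten_of_two
    (hZ : finrank k (Subalgebra.center k A).toSubmodule ≤ 5) (h1 : finrank k (Piece ε 1) = 2)
    (hJ3 : aug ε ^ 3 ≠ ⊥) : (∀ x y : A, x * y = y * x) ∨ finrank k A ≤ 10 := by
  classical
  obtain ⟨m, hm3, hm, hm'⟩ := exists_last ε hnil hJ3
  have hJ2 : aug ε ^ 2 ≠ ⊥ := fun h => hJ3 (le_bot_iff.1 ((pow_succ_le ε 1).trans h.le))
  have hA := finrank_aug ε
  have e1 : finrank k (Piece ε 1) + finrank k (aug ε ^ 2 : Submodule k A) =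
      finrank k (aug ε) := by
    have := finrank_piece ε (n := 1) le_rfl
    rwa [show finrank k (aug ε ^ 1 : Submodule k A) = finrank k (aug ε) by rw [pow_one]] at this
  have e2 : finrank k (Piece ε 2) + finrank k (aug ε ^ 3 : Submodule k A) =
      finrank k (aug ε ^ 2 : Submodule k A) := finrank_piece ε (by omega)
  have hWd := finrank_le_comms_add ε hnil t hsymm hnd hZ
  by_cases hp2 : finrank k (Piece ε 2) ≤ 1
  · refine Or.inl fun x y => central_of_comm_aug ε (fun j hj => ?_) y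
    exact (central_of_line ε hnil t hsymm hnd (n := 1) hJ2 hp2 ((mem_aug_pow_one ε).2 hj) x).symm
  refine Or.inr ?_
  have hnotle : ¬ aug ε ^ m ≤ comms k A := by
    obtain ⟨i, rfl⟩ := Nat.exists_eq_add_of_le (show 1 ≤ m by omega)
    rw [add_comm 1 i] at hm ⊢
    exact not_le_comms ε hnil t hsymm hnd hm
  have hWm : comms k A < comms k A ⊔ aug ε ^ m :=
    lt_of_le_of_ne le_sup_left fun h => hnotle (le_sup_right.trans h.ge)
  have hmle : aug ε ^ m ≤ aug ε ^ 3 := LocalCentre.pow_le_pow ε (by omega) hm3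
  -- the shape of degree two for any pair of generators
  have facts : ∀ p q : A, p ∈ aug ε → q ∈ aug ε → aug ε ≤ span k {p, q} ⊔ aug ε ^ 2 →
      comms k A ≤ span k {p * q - q * p} ⊔ commTwo ε ∧ p * q - q * p ∉ aug ε ^ 3 ∧
        aug ε ^ 3 ≤ comms k A ⊔ aug ε ^ m ∧ finrank k (Piece ε 2) = 2 := by
    intro p q hp hq hgen
    have hW : comms k A ≤ span k {p * q - q * p} ⊔ commTwo ε := by
      refine (comms_le_span ε hp hq (zero_mem _) (hgen.trans (sup_le_sup_right (span_mono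
        (by intro x hx; rcases hx with rfl | rfl <;> simp)) _))).trans (sup_le_sup_right
        (span_le.2 ?_) _)
      intro x hx
      rcases hx with rfl | rfl | rfl
      · exact subset_span rfl
      · simp
      · simp
    set C := span k {p * q - q * p} with hC
    have hC1 : finrank k C ≤ 1 := by
      refine (finrank_span_le_card _).trans ?_
      simp
    have hsup : comms k A ⊔ aug ε ^ 3 ≤ C ⊔ aug ε ^ 3 :=
      sup_le (hW.trans (sup_le_sup_left (commTwo_le ε) _)) le_sup_right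
    have hinf := Submodule.finrank_sup_add_finrank_inf_eq C (aug ε ^ 3)
    have h1' := Submodule.finrank_lt_finrank_of_lt hWm
    have h2' := Submodule.finrank_mono (sup_le_sup_left hmle (comms k A))
    have h3' := Submodule.finrank_mono hsup
    refine ⟨hW, fun hmem => ?_, ?_, by omega⟩
    · have : C ⊔ aug ε ^ 3 = aug ε ^ 3 :=
        sup_eq_right.2 (span_le.2 (Set.singleton_subset_iff.2 hmem))
      rw [this] at h3'
      omega
    · exact le_sup_right.trans (Submodule.eq_of_le_of_finrank_le (sup_le_sup_left hmle _)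
        (by omega)).ge
  obtain ⟨g, hg, hgen⟩ := exists_gens ε h1
  have hr : Set.range g = {g 0, g 1} := by
    ext x
    simp only [Set.mem_range, Fin.exists_fin_succ, IsEmpty.exists_iff, or_false]
    simp [eq_comm]
  rw [hr] at hgen
  obtain ⟨hW, hc, hcube, ha2⟩ := facts _ _ (hg 0) (hg 1) hgen
  have ha3 : finrank k (Piece ε 3) ≤ 4 := by
    have hinj : Function.Injective fun f : Piece ε 3 →ₗ[k] k => (triple ε).left.compr₂ f := by
      intro f f' h
      refine sub_eq_zero.1 ((triple ε).span3 _ fun u r => ?_)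
      rw [LinearMap.sub_apply, sub_eq_zero]
      exact LinearMap.congr_fun (LinearMap.congr_fun h u) r
    let L : (Piece ε 3 →ₗ[k] k) →ₗ[k] Piece ε 1 →ₗ[k] Piece ε 2 →ₗ[k] k :=
      { toFun := fun f => (triple ε).left.compr₂ f
        map_add' := fun f f' => rfl
        map_smul' := fun c f => rfl }
    have h := LinearMap.finrank_le_finrank_of_injective (f := L) hinj
    rw [Subspace.dual_finrank_eq, Module.finrank_linearMap, Module.finrank_linearMap,
      finrank_self, h1, ha2] at h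
    omega
  have e3 : finrank k (Piece ε 3) + finrank k (aug ε ^ 4 : Submodule k A) =
      finrank k (aug ε ^ 3 : Submodule k A) := finrank_piece ε (by omega)
  by_cases hJ5 : aug ε ^ 5 = ⊥
  · have := finrank_last_le_one ε hnil t hsymm hnd hJ5
    omega
  exfalso
  have hJ4 : aug ε ^ 4 ≠ ⊥ := fun h => hJ5 (le_bot_iff.1 ((pow_succ_le ε 3).trans h.le))
  have hm5 : 5 ≤ m := by
    by_contra h
    exact hJ5 (le_bot_iff.1 ((LocalCentre.pow_le_pow ε (by omega) (by omega)).trans hm'.le))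
  have hp3 : 2 ≤ finrank k (Piece ε 3) :=
    two_le_piece ε hnil t hsymm hnd (l := 2) hcube hm' (n := 1) hJ5
  have hCinf : ∀ x ∈ span k {g 0 * g 1 - g 1 * g 0}, x ∈ aug ε ^ 3 → x = 0 := by
    intro x hx hx3
    obtain ⟨c, rfl⟩ := mem_span_singleton.1 hx
    by_contra hne
    exact hc ((smul_mem_iff _ fun h => hne (by rw [h, zero_smul])).1 hx3)
  obtain ⟨P, Q, hind, hPP, hQQ⟩ := (triple ε).exists_square_zero h1 ha2 (triple_comm3 ε hCinf hW
    (hcube.trans (sup_le_sup_left (LocalCentre.pow_le_pow ε (by omega) (by omega)) _))) hp3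
  obtain ⟨p, rfl⟩ := mkP_surjective ε 1 P
  obtain ⟨q, rfl⟩ := mkP_surjective ε 1 Q
  have hgen' : aug ε ≤ span k {p.1, q.1} ⊔ aug ε ^ 2 := by
    have ht := hind.span_eq_top_of_card_eq_finrank (by simp [h1])
    rw [Matrix.range_cons, Matrix.range_cons, Matrix.range_empty, Set.union_empty,
      Set.singleton_union, ← Set.image_pair] at ht
    have := le_span_of_piece ε (n := 1) {p, q} ht
    rw [Set.image_pair] at this
    exact fun x hx => this ((mem_aug_pow_one ε).2 hx)
  have hp := (mem_aug_pow_one ε).1 p.2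
  have hq := (mem_aug_pow_one ε).1 q.2
  obtain ⟨-, hc', hcube', -⟩ := facts _ _ hp hq hgen'
  have hpp : p.1 * p.1 ∈ aug ε ^ 3 := (mkP_eq_zero ε).1 hPP
  have hqq : q.1 * q.1 ∈ aug ε ^ 3 := (mkP_eq_zero ε).1 hQQ
  set e := p.1 * (q.1 * p.1 * q.1) - q.1 * p.1 * q.1 * p.1 with he
  have h34 : aug ε ^ 4 ≤ span k {e} ⊔ aug ε ^ 5 := by
    intro x hx
    obtain ⟨w, hw, s, hs, rfl⟩ := mem_sup.1 (hcube'
      (LocalCentre.pow_le_pow ε (by omega) (by omega) hx))
    have hs5 : s ∈ aug ε ^ 5 := LocalCentre.pow_le_pow ε (by omega) hm5 hs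
    refine add_mem (comms_inf_four ε hp hq hgen' (exists_pow_eq_bot ε hnil) hpp hqq hc' hp3 hw ?_)
      (mem_sup_right hs5)
    simpa using sub_mem hx (LocalCentre.pow_le_pow ε (by omega) (by omega) hs5)
  have e4 : finrank k (Piece ε 4) + finrank k (aug ε ^ 5 : Submodule k A) =
      finrank k (aug ε ^ 4 : Submodule k A) := finrank_piece ε (by omega)
  have h4 : finrank k (Piece ε 4) ≤ 1 := by
    have h := Submodule.finrank_mono h34
    have h' := Submodule.finrank_sup_add_finrank_inf_eq (span k {e}) (aug ε ^ 5)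
    have h'' : finrank k (span k {e}) ≤ 1 := by
      refine (finrank_span_le_card _).trans ?_
      simp
    omega
  have he0 : e = 0 := sub_eq_zero.2 (central_of_line ε hnil t hsymm hnd (n := 3) hJ4 h4
    (mem_pow_mul ε (j := 1) rfl (mem_pow_mul ε (j := 1) rfl q.2 p.2) q.2) p.1).symm
  refine hJ4 (pow_eq_bot_of_le ε hnil (n := 3) ?_)
  rw [he0, span_zero_singleton, bot_sup_eq] at h34
  exact h34

end CfsgLib.BlockA.LocalFive
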