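import Cfsg.Agent.Lib.BlockA.LocalFive.ThreeGen
import Cfsg.Agent.Lib.BlockA.LocalFive.TwoGen

/-!
A local symmetric algebra with centre of dimension at most five is commutative or has dimension
at most ten.
-/

set_option autoImplicit false
set_option linter.unusedSectionVars false

namespace CfsgLib.BlockA.LocalFive

open Module Submodule LocalCentre

variable {k A : Type*} [Field k] [IsAlgClosed k] [Ring A] [Algebra k A] [FiniteDimensional k A]
  (ε : A →ₐ[k] k) (hnil : ∀ x, ε x = 0 → IsNilpotent x) (t : A →ₗ[k] k)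
  (hsymm : ∀ x y, t (x * y) = t (y * x)) (hnd : ∀ x, (∀ y, t (x * y) = 0) → x = 0)
include hnil hsymm hnd

/-- **Centre of dimension at most five.** -/
theorem comm_or_finrank_le_ten (hZ : finrank k (Subalgebra.center k A).toSubmodule ≤ 5) :
    (∀ x y : A, x * y = y * x) ∨ finrank k A ≤ 10 := by
  classical
  by_cases hJ3 : aug ε ^ 3 = ⊥
  · -- commutators annihilate the augmentation ideal
    refine Or.inl fun x y => sub_eq_zero.1 (hnd _ fun z => ?_)
    have h0 : (x * y - y * x) * (z - algebraMap k A (ε z)) = 0 := by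
      have := mem_pow_mul ε (i := 2) (j := 1) rfl (comms_le_sq ε (comm_mem x y))
        ((mem_aug_pow_one ε).2 (sub_mem_aug ε z))
      rw [hJ3, mem_bot] at this
      exact this
    rw [mul_sub, sub_eq_zero] at h0
    rw [h0, Algebra.algebraMap_eq_smul_one, mul_smul_comm, mul_one, map_smul,
      trace_comms ε hnil t hsymm hnd (comm_mem x y), smul_zero]
  have hA := finrank_aug ε
  have e1 : finrank k (Piece ε 1) + finrank k (aug ε ^ 2 : Submodule k A) =
      finrank k (aug ε) := by
    have := finrank_piece ε (n := 1) le_rfl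
    rwa [show finrank k (aug ε ^ 1 : Submodule k A) = finrank k (aug ε) by rw [pow_one]] at this
  have hle3 : finrank k (Piece ε 1) ≤ 3 := by
    have hWd := finrank_le_comms_add ε hnil t hsymm hnd hZ
    have hlt : comms k A < aug ε ^ 2 := lt_of_le_of_ne (comms_le_sq ε) fun h => by
      refine not_le_comms ε hnil t hsymm hnd (n := 1) (fun hb => hJ3 ?_) h.ge
      exact le_bot_iff.1 ((pow_succ_le ε 1).trans hb.le)
    have := Submodule.finrank_lt_finrank_of_lt hlt
    omega
  rcases (show finrank k (Piece ε 1) ≤ 1 ∨ finrank k (Piece ε 1) = 2 ∨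
    finrank k (Piece ε 1) = 3 by omega) with h | h | h
  · -- one generator
    refine Or.inl ?_
    obtain ⟨g, hg, hgen⟩ := exists_gens ε (n := finrank k (Piece ε 1)) rfl
    obtain ⟨x, hx, hr⟩ : ∃ x ∈ aug ε, span k (Set.range g) ≤ span k ({x} : Set A) := by
      rcases Nat.le_one_iff_eq_zero_or_eq_one.1 h with h0 | h0
      · refine ⟨0, zero_mem _, span_le.2 ?_⟩
        rintro _ ⟨i, rfl⟩
        exact (Fin.cast h0 i).elim0
      · refine ⟨g ⟨0, by omega⟩, hg _, span_mono ?_⟩
        rintro _ ⟨i, rfl⟩
        rw [Set.mem_singleton_iff, show i = ⟨0, by omega⟩ from Fin.ext (by have := i.isLt; simp; omega)]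
    have htop : Algebra.adjoin k ({x} : Set A) = ⊤ :=
      adjoin_eq_top ε (exists_pow_eq_bot ε hnil) _ (Set.singleton_subset_iff.2 hx)
        (hgen.trans (sup_le_sup_right hr _))
    intro a b
    have hall : ∀ a : A, a ∈ Algebra.adjoin k ({x} : Set A) := fun a => htop ▸ Algebra.mem_top
    exact (Algebra.commute_of_mem_adjoin_singleton_of_commute (hall b)
      (Algebra.commute_of_mem_adjoin_self (hall a)).symm).eq
  · exact comm_or_finrank_le_ten_of_two ε hnil t hsymm hnd hZ h hJ3
  · exact Or.inr (finrank_le_ten_of_three ε hnil t hsymm hnd hZ h hJ3)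

end CfsgLib.BlockA.LocalFive
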