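import Cfsg.Agent.Lib.BlockA.LocalFive.Triple

/-!
Three generators: two-dimensional degree two, or a one-sided annihilator in degree one, force
degree three to have dimension at most one.
-/

set_option autoImplicit false
set_option linter.unusedSectionVars false

namespace CfsgLib.BlockA.LocalFive

open Module

variable {k V R₂ R₃ : Type*} [Field k] [AddCommGroup V] [Module k V] [AddCommGroup R₂]
  [Module k R₂] [AddCommGroup R₃] [Module k R₃] [FiniteDimensional k V] [FiniteDimensional k R₂]
  [FiniteDimensional k R₃]

namespace Triple

variable (T : Triple k V R₂ R₃)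

/-- A multiplication onto degree two carries degree two onto degree three. -/
theorem left_surjective {x : V} (hx : Function.Surjective (T.mul x)) :
    Function.Surjective (T.left x) := by
  rw [← LinearMap.range_eq_top]
  by_contra h
  obtain ⟨f, hf0, hf⟩ := Submodule.exists_dual_map_eq_bot_of_lt_top (lt_top_iff_ne_top.2 h)
    inferInstance
  have hz : ∀ r, f (T.left x r) = 0 := fun r => by
    have := Submodule.mem_map_of_mem (f := f) (LinearMap.mem_range_self (T.left x) r)
    rwa [hf, Submodule.mem_bot] at this
  refine hf0 (T.right_span f fun r w => ?_)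
  obtain ⟨v, rfl⟩ := hx r
  rw [← T.assoc]
  exact hz _

theorem finrank_three_le {x : V} (hx : Function.Surjective (T.mul x)) :
    finrank k R₃ ≤ finrank k R₂ :=
  (T.left x).finrank_le_finrank_of_surjective (T.left_surjective hx)

theorem left_injective {x : V} (hx : Function.Surjective (T.mul x))
    (h : finrank k R₂ ≤ finrank k R₃) : Function.Injective (T.left x) :=
  (LinearMap.injective_iff_surjective_of_finrank_eq_finrank
    (le_antisymm h (T.finrank_three_le hx))).2 (T.left_surjective hx)

/-- A vector can be completed to a basis of a three-space. -/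
theorem exists_two {x : V} (hV : finrank k V = 3) (y : V) (hxy : LinearIndependent k ![x, y]) :
    ∃ z, LinearIndependent k ![x, y, z] := by
  obtain ⟨z, hz⟩ : ∃ z, z ∉ Submodule.span k (Set.range ![x, y]) := by
    by_contra h
    push Not at h
    have h1 : (⊤ : Submodule k V) ≤ Submodule.span k (Set.range ![x, y]) := fun z _ => h z
    have h2 := Submodule.finrank_mono h1
    rw [finrank_top, hV, finrank_span_eq_card hxy, Fintype.card_fin] at h2
    omega
  refine ⟨z, ?_⟩
  rw [Fintype.linearIndependent_iff]
  intro g hg
  simp only [Fin.sum_univ_three, Matrix.cons_val_zero, Matrix.cons_val_one, Matrix.cons_val] at hg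
  have h2 : g 2 = 0 := by
    by_contra h2
    refine hz ((Submodule.smul_mem_iff _ h2).1 ?_)
    rw [show g 2 • z = -(g 0 • x + g 1 • y) by
      rw [eq_neg_iff_add_eq_zero, add_comm]; exact hg]
    exact Submodule.neg_mem _ (Submodule.add_mem _
      (Submodule.smul_mem _ _ (Submodule.subset_span ⟨0, rfl⟩))
      (Submodule.smul_mem _ _ (Submodule.subset_span ⟨1, rfl⟩)))
  rw [h2, zero_smul, add_zero] at hg
  obtain ⟨h0, h1⟩ := LinearIndependent.pair_iff.1 hxy _ _ hg
  intro i
  fin_cases i <;> assumption

/-- Two commutators of one vector of a basis in `S`: degree two is at most one larger. -/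
theorem comm_pair_le (hV : finrank k V = 3) (hc : T.Comm2) {p q r : V}
    (hl : LinearIndependent k ![p, q, r]) {S : Submodule k R₂}
    (h1 : T.mul p q - T.mul q p ∈ S) (h2 : T.mul p r - T.mul r p ∈ S) :
    finrank k R₂ ≤ finrank k S + 1 := by
  refine (comm_indep T hc hV hl).trans ?_
  refine (Submodule.finrank_mono (t := S ⊔ Submodule.span k {T.mul q r - T.mul r q})
    (Submodule.span_le.2 ?_)).trans ((Submodule.finrank_add_le_finrank_add_finrank _ _).trans ?_)
  · rintro _ ⟨i, rfl⟩
    fin_cases i
    · exact Submodule.mem_sup_left h1
    · exact Submodule.mem_sup_left h2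
    · exact Submodule.mem_sup_right (Submodule.mem_span_singleton_self _)
  · exact Nat.add_le_add_left ((finrank_span_le_card _).trans (by simp)) _

/-- **Three generators, two-dimensional degree two, a multiplication onto.** -/
theorem finrank_three_le_one_of_two (hV : finrank k V = 3) (h2 : finrank k R₂ = 2) (hc : T.Comm2)
    {x : V} (hx : Function.Surjective (T.mul x)) : finrank k R₃ ≤ 1 := by
  by_contra hR
  have hinj := T.left_injective hx (by omega)
  obtain ⟨κ, hκ0, hκ⟩ : ∃ κ, κ ≠ 0 ∧ T.mul x κ = 0 := by
    by_contra h
    push Not at h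
    have := LinearMap.finrank_le_finrank_of_injective (f := T.mul x)
      ((injective_iff_map_eq_zero _).2 fun v hv => by_contra fun hv0 => h v hv0 hv)
    omega
  have hann : ∀ v, T.mul x v = 0 → ∀ w, T.mul v w = 0 := fun v hv w => hinj (by
    rw [map_zero, T.assoc, hv, map_zero, LinearMap.zero_apply])
  have hxκ : LinearIndependent k ![x, κ] := by
    rw [LinearIndependent.pair_iff]
    intro a b hab
    have e : ∀ w, a • T.mul x w = 0 := fun w => by
      have := congrArg (fun v => T.mul v w) hab
      simpa [hann κ hκ] using this
    have ha : a = 0 := by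
      by_contra ha
      have : finrank k R₂ ≤ 0 := by
        rw [← finrank_top k R₂, ← LinearMap.range_eq_top.2 hx, LinearMap.range_eq_bot.2
          (LinearMap.ext fun w => by simpa [ha] using e w), finrank_bot]
      omega
    subst ha
    rw [zero_smul, zero_add, smul_eq_zero] at hab
    exact ⟨rfl, hab.resolve_right hκ0⟩
  have hkill : ∀ v, T.mul v κ = 0 := by
    intro v
    obtain ⟨v', hv'⟩ := hx (T.mul v κ)
    have hv'ann : ∀ w, T.mul v' w = 0 := fun w => hinj (by
      rw [map_zero, T.assoc, hv', ← T.assoc, hann κ hκ, map_zero])
    by_contra hne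
    have hl : LinearIndependent k ![κ, x, v'] := by
      rw [Fintype.linearIndependent_iff]
      intro g hg
      simp only [Fin.sum_univ_three, Matrix.cons_val_zero, Matrix.cons_val_one,
        Matrix.cons_val] at hg
      have h1 : g 1 = 0 := by
        by_contra h1
        refine (two_ne_zero' ℕ) ?_
        rw [← h2, ← finrank_top k R₂, ← LinearMap.range_eq_top.2 hx, LinearMap.range_eq_bot.2
          (LinearMap.ext fun w => ?_), finrank_bot]
        have := congrArg (fun v => T.mul v w) hg
        simpa [hann κ hκ, hv'ann, h1] using this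
      rw [h1, zero_smul, add_zero] at hg
      have h2' : g 2 = 0 := by
        have e := congrArg (T.mul x) hg
        rw [map_add, map_smul, map_smul, hκ, smul_zero, zero_add, hv', map_zero,
          smul_eq_zero] at e
        exact e.resolve_right hne
      rw [h2', zero_smul, add_zero, smul_eq_zero] at hg
      intro i
      fin_cases i
      exacts [hg.resolve_right hκ0, h1, h2']
    have h' := T.comm_pair_le hV hc hl (S := ⊥) (by simp [hκ, hann κ hκ])
      (by simp [hann κ hκ, hv'ann])
    rw [finrank_bot] at h'
    omega
  obtain ⟨z, hz⟩ := exists_two hV x (LinearIndependent.pair_symm_iff.1 hxκ)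
  have h' := T.comm_pair_le hV hc hz (S := ⊥) (by simp [hann κ hκ, hkill])
    (by simp [hann κ hκ, hkill])
  rw [finrank_bot] at h'
  omega

end Triple

end CfsgLib.BlockA.LocalFive
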