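import Cfsg.Agent.Lib.BlockA.RankOneSmall
import Cfsg.Agent.Lib.BlockA.LocalFive.Algebra

/-!
The corner algebra of a block of rank one, with the multiplicities of the characters.
-/

set_option autoImplicit false
set_option linter.unusedSectionVars false
set_option maxHeartbeats 1000000

namespace CfsgLib.BlockA.LocalFive

open Cfsg CfsgLib.Block CfsgLib.BlockA CfsgLib.BlockB CfsgLib.BlockB.IdemCount
  CfsgLib.BlockA.ProjLattice CfsgLib.BlockA.BlockSquares CfsgLib.BlockA.RankOneSmall
  MonoidAlgebra Module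

universe u

variable {G : Type u} [Group G] [Fintype G] {p : ℕ} [hp : Fact p.Prime] {M : Ideal AlgInt}
  [M.IsPrime] (hM : IsPModular p M) {B : Set (IrrCharacter G)} (hB : IsPBlock M B)
include hM hB

/-- **The corner of a block of rank one.** -/
theorem exists_corner (hl : blockRank p B = 1) :
    ∃ (A : Type u) (_ : Ring A) (_ : Algebra (kres M) A) (_ : FiniteDimensional (kres M) A)
      (ε : A →ₐ[kres M] kres M) (t : A →ₗ[kres M] kres M) (m : IrrCharacter G → ℕ) (r : ℕ),
      (∀ x, ε x = 0 → IsNilpotent x) ∧ (∀ x y, t (x * y) = t (y * x)) ∧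
      (∀ x, (∀ y, t (x * y) = 0) → x = 0) ∧
      finrank (kres M) (Subalgebra.center (kres M) A).toSubmodule ≤ Nat.card B ∧
      ∑ χ ∈ B.toFinite.toFinset, m χ ^ 2 ≤ finrank (kres M) A ∧
      (∀ χ ∈ B, 1 ≤ m χ) ∧ ∀ χ ∈ B, charDegree (χ : G → ℂ) = r * m χ := by
  classical
  have := isAlgClosed_kres (M := M)
  set k := kres M with hkdef
  obtain ⟨S⟩ := exists_splitData (k := k) (Λ := MonoidAlgebra k G)
  set b : MonoidAlgebra k G := (blkIdem M B : MonoidAlgebra k G) with hb
  have hbb : b * b = b := blk_idem hM hB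
  have hbc : ∀ x, b * x = x * b := fun x => (Subalgebra.mem_center_iff.1 (blkIdem M B).2 x).symm
  have := Fintype.ofFinite (IrrCharacter G)
  obtain ⟨i₀, hi₀⟩ : ∃ i₀, (Finset.univ.filter fun i => rk S i b ≠ 0) = {i₀} := by
    refine Finset.card_eq_one.1 (le_antisymm (hl ▸ filter_le_blockRank hM hB S) ?_)
    exact hl ▸ blockRank_le_filter hM hB S
  have hπb : S.π b = Pi.single i₀ 1 := by
    funext i
    rcases eq_or_ne i i₀ with rfl | hne
    · rw [Pi.single_eq_same]
      refine pi_blk_eq_one hM hB S i ?_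
      exact (Finset.mem_filter.1 (hi₀.symm ▸ Finset.mem_singleton_self i :
        i ∈ Finset.univ.filter fun i => rk S i b ≠ 0)).2
    · rw [Pi.single_eq_of_ne hne]
      have h : rk S i b = 0 := by
        by_contra h
        exact hne (Finset.mem_singleton.1 (hi₀ ▸ Finset.mem_filter.2 ⟨Finset.mem_univ i, h⟩))
      rw [rk, Submodule.finrank_eq_zero] at h
      exact LinearMap.range_eq_bot.1 h
  set j := prim S i₀ with hjdef
  have hjj : j * j = j := prim_idem S i₀
  have hπj : S.π j = Pi.single i₀ (one' (v0 S i₀) (φ0 S i₀)) := pi_prim S i₀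
  have hbj : b * j = j := by
    refine (sub_eq_zero.1 (eq_zero_of_pi S (e := j - b * j) ?_ ?_)).symm
    · have h1 : b * j * (b * j) = b * j := blk_mul_idem hM hB hjj
      have h2 : b * j * j = b * j := by rw [mul_assoc, hjj]
      have h3 : j * (b * j) = b * j := by rw [← mul_assoc, ← hbc, mul_assoc, hjj]
      rw [sub_mul, mul_sub, mul_sub, h1, h2, h3, hjj, sub_self, sub_zero]
    · rw [map_sub, map_mul, hπb, hπj, ← Pi.single_mul, one_mul, sub_self]
  -- the multiplicities
  choose m hm using fun χ => exists_nat_mult hM hjj χ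
  have hsingle : ∀ i, i ≠ i₀ → rk S i b = 0 := fun i hne => by
    by_contra h
    exact hne (Finset.mem_singleton.1 (hi₀ ▸ Finset.mem_filter.2 ⟨Finset.mem_univ i, h⟩))
  have hdeg : ∀ χ : IrrCharacter G,
      (if χ ∈ B then charDegree (χ : G → ℂ) else 0) = rk S i₀ b * m χ := by
    intro χ
    have h := congrFun (mult_expansion hM S hbb) χ
    rw [hb, mult_block hM hB χ, ← hb, Finset.sum_eq_single i₀
      (fun i _ hne => by rw [hsingle i hne, zero_smul]) (by simp)] at h
    simp only [Pi.smul_apply, nsmul_eq_mul, Pi.mul_apply, Pi.natCast_apply, ← hjdef, hm] at h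
    apply Nat.cast_injective (R := ℂ)
    push_cast
    rw [← h]
    split_ifs
    · exact CfsgLib.Block.charDegree_cast (CfsgLib.Char.irr_isCharacter χ.2)
    · rfl
  have hm0 : ∀ χ ∈ B, 1 ≤ m χ := fun χ hχ => by
    have h := hdeg χ
    rw [if_pos hχ] at h
    exact Nat.one_le_iff_ne_zero.2 fun h0 => charDegree_ne_zero χ.2 (by rw [h, h0, mul_zero])
  -- the ideal generated by `j` contains the block idempotent
  set I := Submodule.span k (Set.range fun q : MonoidAlgebra k G × MonoidAlgebra k G =>
    q.1 * j * q.2) with hI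
  have hIgen : ∀ a c, a * j * c ∈ I := fun a c => Submodule.subset_span ⟨(a, c), rfl⟩
  have hIl : ∀ r, ∀ y ∈ I, r * y ∈ I := by
    intro r y hy
    induction hy using Submodule.span_induction with
    | mem w hw => obtain ⟨⟨a, c⟩, rfl⟩ := hw; simpa [mul_assoc] using hIgen (r * a) c
    | zero => simp
    | add a c _ _ ha hc => rw [mul_add]; exact add_mem ha hc
    | smul r' a _ ha => rw [mul_smul_comm]; exact Submodule.smul_mem _ r' ha
  have hIr : ∀ r, ∀ y ∈ I, y * r ∈ I := by
    intro r y hy
    induction hy using Submodule.span_induction with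
    | mem w hw => obtain ⟨⟨a, c⟩, rfl⟩ := hw; simpa [mul_assoc] using hIgen a (c * r)
    | zero => simp
    | add a c _ _ ha hc => rw [add_mul]; exact add_mem ha hc
    | smul r' a _ ha => rw [smul_mul_assoc]; exact Submodule.smul_mem _ r' ha
  obtain ⟨y, hyI, hyπ⟩ : ∃ y ∈ I, S.π y = S.π b := by
    let e := Pi.basisFun k (Fin (S.d i₀))
    choose l hl using fun a => S.surj (Pi.single i₀ (one' (e a) (φ0 S i₀)))
    choose r hr using fun a => S.surj (Pi.single i₀ (one' (v0 S i₀) (e.coord a)))
    refine ⟨∑ a, l a * j * r a, Submodule.sum_mem _ fun a _ => hIgen _ _, ?_⟩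
    simp only [map_sum, map_mul, hl, hr, hπj, ← Pi.single_mul, one'_mul, φ0_v0, one_smul,
      hπb]
    funext i
    rcases eq_or_ne i i₀ with rfl | hne
    swap
    · simp [Finset.sum_apply, Pi.single_eq_of_ne hne]
    rw [Finset.sum_apply, Pi.single_eq_same]
    simp only [Pi.single_eq_same]
    refine LinearMap.ext fun v => ?_
    simp only [LinearMap.sum_apply, one'_apply, Module.End.one_apply, Basis.coord_apply]
    exact e.sum_repr v
  have hbI : b ∈ I := by
    set u := b - b * y with hu
    have hπu : S.π u = 0 := by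
      rw [hu, map_sub, map_mul, hyπ, ← map_mul, hbb, sub_self]
    obtain ⟨v, hv⟩ := (S.nil u hπu).isUnit_one_sub
    have hbu : b * (1 - u) = b * y := by
      rw [hu]; simp only [mul_sub, mul_one, ← mul_assoc, hbb, sub_sub_cancel]
    have : b = b * y * (↑v⁻¹ : MonoidAlgebra k G) := by rw [← hbu, ← hv, Units.mul_inv_cancel_right]
    rw [this]
    exact hIr _ _ (hIl b y hyI)
  obtain ⟨co, hco⟩ := Finsupp.mem_span_range_iff_exists_finsupp.1 hbI
  let R' := MonoidAlgebra k G × MonoidAlgebra k G
  let s : Finset R' := co.support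
  let l : R' → MonoidAlgebra k G := fun q => co q • q.1
  let r : R' → MonoidAlgebra k G := fun q => q.2 * b
  have hdec : b = ∑ q ∈ s, l q * j * r q := by
    have e1 : b = (co.sum fun q a => a • (q.1 * j * q.2)) * b := by rw [hco, hbb]
    refine e1.trans ?_
    rw [Finsupp.sum, Finset.sum_mul]
    exact Finset.sum_congr rfl fun q _ => by simp [l, r, mul_assoc]
  -- the corner algebra
  have hje : IsIdempotentElem j := hjj
  let f : k →+* hje.Corner :=
    { toFun := fun a => ⟨a • j, ⟨a • (1 : MonoidAlgebra k G), by simp [hjj]⟩⟩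
      map_one' := Subtype.ext (one_smul k j)
      map_mul' := fun a a' => Subtype.ext (by
        show (a * a') • j = a • j * a' • j
        rw [smul_mul_smul_comm, hjj])
      map_zero' := Subtype.ext (zero_smul k j)
      map_add' := fun a a' => Subtype.ext (add_smul a a' j) }
  letI : Algebra k hje.Corner := RingHom.toAlgebra' f fun a x => Subtype.ext (by
    obtain ⟨h1, h2⟩ := (Subsemigroup.mem_corner_iff hje).1 x.2
    show a • j * x.1 = x.1 * a • j
    rw [smul_mul_assoc, mul_smul_comm]
    exact congrArg (a • ·) (h1.trans h2.symm))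
  have hval : ∀ x : hje.Corner,
      j * x.1 = x.1 ∧ x.1 * j = x.1 := fun x =>
    (Subsemigroup.mem_corner_iff hje).1 x.2
  let incl : hje.Corner →ₗ[k] MonoidAlgebra k G :=
    { toFun := fun x => x.1
      map_add' := fun _ _ => rfl
      map_smul' := fun a x => by
        show a • j * x.1 = a • x.1
        rw [smul_mul_assoc, (hval x).1] }
  have hinj : Function.Injective incl := fun x y h => Subtype.ext h
  have : FiniteDimensional k hje.Corner := Module.Finite.of_injective incl hinj
  have hdim : finrank k hje.Corner = ∑ χ : IrrCharacter G, m χ ^ 2 := by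
    have hr : LinearMap.range incl =
        LinearMap.range (LinearMap.mulLeft k j ∘ₗ LinearMap.mulRight k j) := by
      ext x
      constructor
      · rintro ⟨x, rfl⟩
        refine ⟨x.1, ?_⟩
        show j * (x.1 * j) = x.1
        rw [(hval x).2, (hval x).1]
      · rintro ⟨w, rfl⟩
        exact ⟨⟨_, ⟨w, by simp [mul_assoc]⟩⟩, rfl⟩
    have h := CornerDim.finrank_corner hM hjj
    rw [← hr, LinearMap.finrank_range_of_inj hinj] at h
    simp only [hm] at h
    exact_mod_cast h
  -- the augmentation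
  have hpi : ∀ x : hje.Corner, S.π x.1 =
      Pi.single i₀ (φ0 S i₀ (S.π x.1 i₀ (v0 S i₀)) • one' (v0 S i₀) (φ0 S i₀)) := by
    intro x
    have h : S.π x.1 = S.π j * S.π x.1 * S.π j := by
      rw [← map_mul, ← map_mul, (hval x).1, (hval x).2]
    funext i
    conv_lhs => rw [h, hπj]
    rcases eq_or_ne i i₀ with rfl | hne
    · refine LinearMap.ext fun v => ?_
      simp [smul_smul, mul_comm]
    · simp [Pi.single_eq_of_ne hne]
  let εf : hje.Corner → k := fun x => φ0 S i₀ (S.π x.1 i₀ (v0 S i₀))
  let ε : hje.Corner →ₐ[k] k :=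
    { toFun := εf
      map_one' := by
        show φ0 S i₀ (S.π j i₀ (v0 S i₀)) = 1
        rw [hπj, Pi.single_eq_same, one'_apply, φ0_v0, one_smul, φ0_v0]
      map_mul' := fun x y => by
        show φ0 S i₀ (S.π (x.1 * y.1) i₀ (v0 S i₀)) = εf x * εf y
        rw [map_mul, Pi.mul_apply, Module.End.mul_apply, hpi y, Pi.single_eq_same,
          LinearMap.smul_apply, one'_apply, φ0_v0, one_smul, map_smul, map_smul, smul_eq_mul,
          mul_comm]
      map_zero' := by
        show φ0 S i₀ (S.π (0 : MonoidAlgebra k G) i₀ (v0 S i₀)) = 0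
        simp
      map_add' := fun x y => by
        show φ0 S i₀ (S.π (x.1 + y.1) i₀ (v0 S i₀)) = εf x + εf y
        simp [εf]
      commutes' := fun a => by
        show φ0 S i₀ (S.π (a • j) i₀ (v0 S i₀)) = a
        rw [map_smul, Pi.smul_apply, LinearMap.smul_apply, map_smul, hπj,
          Pi.single_eq_same, one'_apply, φ0_v0, one_smul, φ0_v0, smul_eq_mul, mul_one] }
  have hnil : ∀ x, ε x = 0 → IsNilpotent x := by
    intro x hx
    have h0 : S.π x.1 = 0 := by
      rw [hpi x, show φ0 S i₀ (S.π x.1 i₀ (v0 S i₀)) = 0 from hx, zero_smul, Pi.single_zero]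
    obtain ⟨N, hN⟩ := S.nil _ h0
    refine ⟨N + 1, Subtype.ext ?_⟩
    have hpow : ∀ n : ℕ, ((x ^ (n + 1)) : hje.Corner).1 = x.1 ^ (n + 1) := by
      intro n
      induction n with
      | zero => rw [pow_one, pow_one]
      | succ n ih =>
        rw [pow_succ x (n + 1), pow_succ x.1 (n + 1), ← ih]
        rfl
    rw [hpow, pow_succ, hN, zero_mul]
    rfl
  let t : hje.Corner →ₗ[k] k := (traceForm k G).comp incl
  have hsymm : ∀ x y, t (x * y) = t (y * x) := fun x y => traceForm_symm k x.1 y.1
  have hnd : ∀ x, (∀ y, t (x * y) = 0) → x = 0 := by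
    intro x hx
    refine Subtype.ext (traceForm_nondeg k x.1 fun y => ?_)
    have h := hx ⟨_, ⟨y, rfl⟩⟩
    show traceForm k G (x.1 * y) = 0
    rw [← h]
    show _ = traceForm k G (x.1 * (j * y * j))
    conv_lhs => rw [← (hval x).1, ← (hval x).2]
    simp only [← mul_assoc, traceForm_symm k _ j]
  -- the centre
  have hcen : finrank k (Subalgebra.center k hje.Corner).toSubmodule ≤ Nat.card B := by
    rw [← finrank_block_center hM hB]
    set V := LinearMap.range (LinearMap.mulLeft k b ∘ₗ classEmb k G) with hV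
    refine le_trans (le_of_eq (Submodule.equivMapOfInjective incl hinj _).finrank_eq) ?_
    refine le_trans (Submodule.finrank_mono ?_) (Submodule.finrank_map_le (LinearMap.mulLeft k j) V)
    rintro _ ⟨z, hz, rfl⟩
    obtain ⟨hz1, hz2⟩ := hval z
    have hcomm : ∀ w : MonoidAlgebra k G, z.1 * (j * w * j) = j * w * j * z.1 := fun w =>
      congrArg Subtype.val ((Subalgebra.mem_center_iff (R := k) (A := hje.Corner)).1 hz
        ⟨_, ⟨w, rfl⟩⟩).symm
    set C := ∑ q ∈ s, l q * z.1 * r q with hC
    have hrb : ∀ q, r q * b = r q := fun q => by simp [r, mul_assoc, hbb]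
    have hCb : C * b = C := by
      rw [hC, Finset.sum_mul]
      exact Finset.sum_congr rfl fun q _ => by rw [mul_assoc, hrb]
    have hCc : ∀ x, x * C = C * x := by
      intro x
      calc x * C = x * C * b := by rw [mul_assoc, hCb]
        _ = b * (x * C) := (hbc _).symm
        _ = ∑ q ∈ s, ∑ q' ∈ s, l q' * z.1 * r q' * x * (l q * j * r q) := by
            rw [hdec, hC, Finset.mul_sum, Finset.mul_sum]
            refine Finset.sum_congr rfl fun q _ => ?_
            rw [Finset.sum_mul]
            refine Finset.sum_congr rfl fun q' _ => ?_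
            calc l q' * j * r q' * (x * (l q * z.1 * r q))
                = l q' * ((j * (r q' * x * l q) * j) * z.1) * r q := by
                  conv_lhs => rw [← hz1]
                  simp only [mul_assoc]
              _ = l q' * (z.1 * (j * (r q' * x * l q) * j)) * r q := by rw [hcomm]
              _ = l q' * (z.1 * j) * r q' * x * (l q * j * r q) := by simp only [mul_assoc]
              _ = _ := by rw [hz2]
        _ = C * x := by
            rw [Finset.sum_comm]
            simp only [← Finset.mul_sum, ← hdec, hC, Finset.sum_mul]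
            refine Finset.sum_congr rfl fun q _ => ?_
            calc l q * z.1 * r q * x * b = l q * z.1 * r q * (x * b) := by simp only [mul_assoc]
              _ = l q * z.1 * (r q * b) * x := by rw [← hbc]; simp only [mul_assoc]
              _ = _ := by rw [hrb]
    have hjC : j * C = z.1 := by
      calc j * C = j * C * j := by rw [mul_assoc, ← hCc, ← mul_assoc, hjj]
        _ = ∑ q ∈ s, (j * l q * j) * z.1 * (r q * j) := by
            rw [hC, Finset.mul_sum, Finset.sum_mul]
            refine Finset.sum_congr rfl fun q _ => ?_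
            conv_lhs => rw [← hz1]
            simp only [mul_assoc]
        _ = ∑ q ∈ s, z.1 * (l q * j * r q) * j := by
            refine Finset.sum_congr rfl fun q _ => ?_
            rw [← hcomm]
            calc z.1 * (j * l q * j) * (r q * j) = (z.1 * j) * (l q * j * r q) * j := by
                  simp only [mul_assoc]
              _ = _ := by rw [hz2]
        _ = z.1 := by
            rw [← Finset.sum_mul, ← Finset.mul_sum, ← hdec, mul_assoc, hbj, hz2]
    refine ⟨C, ⟨fun K => C.coeff K.out, ?_⟩, hjC⟩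
    have hcc : IsClassCoeff C :=
      isClassCoeff_iff_mem_center.2 (Subalgebra.mem_center_iff.2 fun x => hCc x)
    have he : classEmb k G (fun K => C.coeff K.out) = C := by
      ext g
      simp only [classEmb, LinearMap.coe_mk, AddHom.coe_mk, coeff_mkGA]
      exact coeff_eq_of_isConj hcc (ConjClasses.mk_eq_mk_iff_isConj.1 (Quotient.out_eq _))
    show b * classEmb k G _ = C
    rw [he, hbc, hCb]
  exact ⟨hje.Corner, inferInstance, inferInstance, inferInstance, ε, t, m, rk S i₀ b, hnil, hsymm,
    hnd, hcen, hdim ▸ Finset.sum_le_sum_of_subset_of_nonneg (Finset.subset_univ _)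
      (fun _ _ _ => Nat.zero_le _), hm0, fun χ hχ => by rw [← hdeg χ, if_pos hχ]⟩

/-- **Rank one and five characters.** -/
theorem pow_defect_of_five (hl : blockRank p B = 1) (hk : Nat.card B = 5) :
    p ^ blockDefect p B = 5 ∨ p ^ blockDefect p B = 8 := by
  classical
  have := isAlgClosed_kres (M := M)
  obtain ⟨A, _, _, _, ε, t, m, r, hnil, hsymm, hnd, hcen, hsum, hm1, hdeg⟩ :=
    exists_corner hM hB hl
  rw [hk] at hcen
  have hdim : finrank (kres M) A ≤ 10 := by
    rcases comm_or_finrank_le_ten ε hnil t hsymm hnd hcen with hcomm | h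
    · have htop : (Subalgebra.center (kres M) A).toSubmodule = ⊤ := eq_top_iff.2 fun x _ =>
        (Subalgebra.mem_center_iff (R := kres M) (A := A)).2 fun y => hcomm y x
      rw [htop, finrank_top] at hcen
      omega
    · exact h
  set F := B.toFinite.toFinset with hF
  have hmF : ∀ {χ}, χ ∈ F ↔ χ ∈ B := B.toFinite.mem_toFinset
  have hF5 : F.card = 5 := by rw [hF, ← Nat.card_eq_card_finite_toFinset, hk]
  have h10 : ∑ χ ∈ F, m χ ^ 2 ≤ 10 := hsum.trans hdim
  obtain ⟨g, d, hg, hgd, hsq, n, hn⟩ := rank_one_degrees hM hB hl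
  obtain ⟨χ₀, hχ₀⟩ := isPBlock_nonempty hB
  have hr0 : 0 < r := by
    refine Nat.pos_of_ne_zero fun h0 => charDegree_ne_zero χ₀.2 ?_
    rw [hdeg χ₀ hχ₀, h0, zero_mul]
  have hrd : ∀ χ ∈ F, (g : ℤ) * d χ = r * m χ := fun χ hχ => by
    exact_mod_cast (hgd χ (hmF.1 hχ)).symm.trans (hdeg χ (hmF.1 hχ))
  set c : ℤ := ∑ χ ∈ F, n χ * (m χ : ℤ) with hc
  have hgc : (g : ℤ) = r * c := by
    rw [hc, Finset.mul_sum]
    calc (g : ℤ) = g * ∑ χ ∈ F, n χ * (d χ : ℤ) := by rw [hF, hn, mul_one]
      _ = _ := by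
        rw [Finset.mul_sum]
        exact Finset.sum_congr rfl fun χ hχ => by linear_combination n χ * hrd χ hχ
  have hmc : ∀ χ ∈ F, (m χ : ℤ) = c * d χ := fun χ hχ => by
    have h := hrd χ hχ
    rw [hgc, mul_assoc] at h
    exact (mul_left_cancel₀ (by exact_mod_cast hr0.ne') h).symm
  have hsmall : ∀ χ ∈ F, m χ = 1 ∨ m χ = 2 := by
    intro χ hχ
    have h1 := hm1 χ (hmF.1 hχ)
    have hrest : ∑ ψ ∈ F.erase χ, 1 ≤ ∑ ψ ∈ F.erase χ, m ψ ^ 2 := Finset.sum_le_sum fun ψ hψ =>
      Nat.one_le_pow _ _ (hm1 ψ (hmF.1 (Finset.mem_of_mem_erase hψ)))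
    rw [← Finset.card_eq_sum_ones, Finset.card_erase_of_mem hχ, hF5] at hrest
    have := Finset.add_sum_erase F (fun ψ => m ψ ^ 2) hχ
    rcases Nat.lt_or_ge (m χ) 3 with h | h
    · omega
    · have := Nat.pow_le_pow_left h 2
      omega
  have hc1 : c = 1 := by
    obtain ⟨χ, hχ⟩ : F.Nonempty := ⟨χ₀, hmF.2 hχ₀⟩
    have hcpos : 1 ≤ c := by
      by_contra h
      have h0 : c * d χ ≤ 0 := mul_nonpos_of_nonpos_of_nonneg (by omega) (Int.natCast_nonneg _)
      have := hmc χ hχ
      have := hm1 χ (hmF.1 hχ)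
      omega
    by_contra hne
    have h2 : ∀ ψ ∈ F, 2 ≤ m ψ := fun ψ hψ => by
      have h := hmc ψ hψ
      have hpos : (1 : ℤ) ≤ d ψ := by
        rcases Nat.eq_zero_or_pos (d ψ) with h0 | h0
        · rw [h0, Nat.cast_zero, mul_zero] at h
          have := hm1 ψ (hmF.1 hψ)
          omega
        · omega
      have h2c : 2 ≤ c := by omega
      have : 2 * 1 ≤ c * (d ψ : ℤ) := mul_le_mul h2c hpos zero_le_one (by omega)
      omega
    have : ∑ ψ ∈ F, 4 ≤ ∑ ψ ∈ F, m ψ ^ 2 := Finset.sum_le_sum fun ψ hψ => by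
      calc 4 = 2 ^ 2 := rfl
        _ ≤ _ := Nat.pow_le_pow_left (h2 ψ hψ) 2
    rw [Finset.sum_const, hF5, smul_eq_mul] at this
    omega
  have hmd : ∀ χ ∈ F, d χ = m χ := fun χ hχ => by
    have := hmc χ hχ
    rw [hc1, one_mul] at this
    exact_mod_cast this.symm
  rw [← hsq, finsum_mem_eq_finite_toFinset_sum _ B.toFinite, ← hF,
    Finset.sum_congr rfl fun χ hχ => by rw [hmd χ hχ]]
  have hval : ∀ χ ∈ F, m χ ^ 2 = 1 + 3 * (m χ - 1) := fun χ hχ => by
    rcases hsmall χ hχ with h | h <;> rw [h] <;> rfl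
  rw [Finset.sum_congr rfl hval, Finset.sum_add_distrib, ← Finset.mul_sum,
    ← Finset.card_eq_sum_ones, hF5] at h10 ⊢
  omega

end CfsgLib.BlockA.LocalFive
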