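import Cfsg.Agent.Lib.BlockA.LocalFive.Pencil

/-!
With three commutators in degree two and two dimensions in degree three, degree four is at most
one-dimensional.
-/

set_option autoImplicit false
set_option linter.unusedSectionVars false

namespace CfsgLib.BlockA.LocalFive

open Module

variable {k V R₂ R₃ R₄ : Type*} [Field k] [AddCommGroup V] [Module k V] [AddCommGroup R₂]
  [Module k R₂] [AddCommGroup R₃] [Module k R₃] [AddCommGroup R₄] [Module k R₄]
  [FiniteDimensional k V] [FiniteDimensional k R₂] [FiniteDimensional k R₃]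

theorem linearIndependent_three {p q r : V} (hp : LinearIndependent k ![p, q])
    (hr : r ∉ Submodule.span k ({p, q} : Set V)) : LinearIndependent k ![p, q, r] := by
  rw [Fintype.linearIndependent_iff]
  intro g hg
  simp only [Fin.sum_univ_three, Matrix.cons_val_zero, Matrix.cons_val_one, Matrix.cons_val] at hg
  have h2 : g 2 = 0 := by
    by_contra h
    refine hr (Submodule.mem_span_pair.2 ⟨-(g 2)⁻¹ * g 0, -(g 2)⁻¹ * g 1, ?_⟩)
    rw [mul_smul, mul_smul, ← smul_add, eq_neg_of_add_eq_zero_left hg, neg_smul, smul_neg, neg_neg,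
      inv_smul_smul₀ h]
  rw [h2, zero_smul, add_zero] at hg
  obtain ⟨h0, h1⟩ := LinearIndependent.pair_iff.1 hp _ _ hg
  intro i
  fin_cases i
  exacts [h0, h1, h2]

namespace Triple

variable (T : Triple k V R₂ R₃)

/-- An element whose multiplication is onto degree two is not injective into degree four. -/
theorem not_injective_four (hV : finrank k V = 3) (h2 : finrank k R₂ = 3) (hc : T.Comm2)
    (h3 : finrank k R₃ = 2) {x : V} (hx : Function.Surjective (T.mul x))
    (left₄ : V →ₗ[k] R₃ →ₗ[k] R₄) (right₄ : R₃ →ₗ[k] V →ₗ[k] R₄) (mid : R₂ →ₗ[k] R₂ →ₗ[k] R₄)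
    (hmid : ∀ u v r, mid (T.mul u v) r = left₄ u (T.left v r))
    (hright : ∀ r v, right₄ (T.left x r) v = left₄ x (T.right r v)) :
    ¬ Function.Injective (left₄ x) := by
  intro hinj₄
  have hinj : Function.Injective (T.mul x) :=
    (LinearMap.injective_iff_surjective_of_finrank_eq_finrank (hV.trans h2.symm)).2 hx
  let e := LinearEquiv.ofBijective (T.mul x) ⟨hinj, hx⟩
  set φ : V →ₗ[k] V →ₗ[k] V := T.mul.compr₂ e.symm.toLinearMap with hφdef
  have hmul : ∀ u v, T.mul u v = T.mul x (φ u v) := fun u v => (e.apply_symm_apply _).symm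
  set π : V →ₗ[k] R₃ := T.left x ∘ₗ T.mul x with hπ
  have hπa : ∀ v, π v = T.left x (T.mul x v) := fun _ => rfl
  obtain ⟨κ, hκ0, hκ⟩ := exists_ker π (by rw [hV, h3]; norm_num)
  have hsurj : Function.Surjective π := (T.left_surjective hx).comp hx
  have hker : ∀ v, π v = 0 → v ∈ Submodule.span k {κ} := by
    have h1 : LinearMap.ker π = Submodule.span k {κ} := by
      refine (Submodule.eq_of_le_of_finrank_le
        ((Submodule.span_singleton_le_iff_mem _ _).2 (LinearMap.mem_ker.2 hκ)) ?_).symm
      have h := LinearMap.finrank_range_add_finrank_ker π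
      rw [LinearMap.range_eq_top.2 hsurj, finrank_top, h3, hV] at h
      rw [finrank_span_singleton hκ0]
      omega
    exact fun v hv => h1 ▸ LinearMap.mem_ker.2 hv
  have hspan : ∀ v ∈ Submodule.span k {κ}, π v = 0 := fun v hv => by
    obtain ⟨c, rfl⟩ := Submodule.mem_span_singleton.1 hv
    rw [map_smul, hκ, smul_zero]
  -- associativity in degree three, read through `x`
  have hπmul : ∀ p q, T.right (T.mul x p) q = π (φ p q) := fun p q => by
    rw [← T.assoc, hmul p q, hπa]
  have hhom : ∀ u v w, π (φ (φ u v) w) = π (φ (φ u x) (φ v w)) := fun u v w => by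
    rw [← hπmul, ← hπmul, ← hmul, ← hmul, ← T.assoc, ← T.assoc, ← hmul]
  have h1 : ∀ v, π (φ κ v) = 0 := fun v => hinj₄ (by
    rw [map_zero, ← hπmul, ← hright, ← hπa, hκ, map_zero, LinearMap.zero_apply])
  have h2' : ∀ u, π (φ (φ (φ u x) x) κ) = 0 := fun u => hinj₄ (by
    rw [map_zero, ← hπmul, ← hmul, ← T.assoc, ← hmid, ← hmul, hmid, ← hπa, hκ, map_zero])
  have hφx : ∀ v, φ x v = v := fun v => hinj (hmul x v).symm
  have hxκ : x ∉ Submodule.span k {κ} := fun hmem => by
    obtain ⟨c, hc⟩ := Submodule.mem_span_singleton.1 hmem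
    have h0 : π = 0 := LinearMap.ext fun v => by
      rw [← hφx v, ← hc, map_smul, LinearMap.smul_apply, map_smul, h1, smul_zero,
        LinearMap.zero_apply]
    obtain ⟨r, hr⟩ : ∃ r : R₃, r ≠ 0 := Module.finrank_pos_iff_exists_ne_zero.1 (by omega : 0 < finrank k R₃)
    obtain ⟨v, rfl⟩ := hsurj r
    exact hr (by rw [h0, LinearMap.zero_apply])
  have hline : ∀ v, π v = 0 → T.mul x v ∈ Submodule.span k {T.mul x κ} := fun v hv => by
    obtain ⟨c, rfl⟩ := Submodule.mem_span_singleton.1 (hker v hv)
    rw [map_smul]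
    exact Submodule.smul_mem _ c (Submodule.mem_span_singleton_self _)
  by_cases hσ : ∀ u, π (φ u x) = 0 → π u = 0
  · -- the twist is onto modulo the kernel
    have hcomp : ∀ w, π (φ w κ) = 0 := by
      let g : V →ₗ[k] V := φ.flip x ∘ₗ φ.flip x
      have hg : ∀ u, π (g u) = 0 → π u = 0 := fun u hu => hσ u (hσ _ hu)
      have hrange : LinearMap.range (π ∘ₗ g) = ⊤ := by
        refine Submodule.eq_top_of_finrank_eq (le_antisymm (Submodule.finrank_le _) ?_)
        have hk : LinearMap.ker (π ∘ₗ g) ≤ Submodule.span k {κ} := fun u hu =>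
          hker u (hg u (LinearMap.mem_ker.1 hu))
        have h := Submodule.finrank_mono hk
        rw [finrank_span_singleton hκ0] at h
        have h' := LinearMap.finrank_range_add_finrank_ker (π ∘ₗ g)
        omega
      intro w
      obtain ⟨u, hu⟩ : ∃ u, π (g u) = π w :=
        LinearMap.mem_range.1 (hrange ▸ Submodule.mem_top : π w ∈ LinearMap.range (π ∘ₗ g))
      obtain ⟨c, hc⟩ := Submodule.mem_span_singleton.1 (hker (w - g u) (by rw [map_sub, hu, sub_self]))
      have hw : w = g u + c • κ := by rw [hc]; abel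
      rw [hw, map_add, LinearMap.add_apply, map_smul, LinearMap.smul_apply, map_add, map_smul,
        h1, smul_zero, add_zero]
      exact h2' u
    obtain ⟨q, hq⟩ : ∃ q, LinearIndependent k ![κ, q] :=
      exists_linearIndependent_pair_of_one_lt_finrank (by omega) hκ0
    obtain ⟨r, hr⟩ := exists_two (k := k) hV q hq
    have hcm : ∀ w, T.mul κ w - T.mul w κ ∈ Submodule.span k {T.mul x κ} := fun w => by
      rw [hmul κ w, hmul w κ]
      exact Submodule.sub_mem _ (hline _ (h1 w)) (hline _ (hcomp w))
    exact T.not_pair_line hV h2 hc hr _ (hcm q) (hcm r)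
  push Not at hσ
  obtain ⟨a, haσ, ha⟩ := hσ
  have hav : ∀ v w, π (φ (φ a v) w) = 0 := fun v w => by
    obtain ⟨c, hc⟩ := Submodule.mem_span_singleton.1 (hker _ haσ)
    rw [hhom, ← hc, map_smul, LinearMap.smul_apply, map_smul, h1, smul_zero]
  have hind : LinearIndependent k ![κ, a, x] := by
    refine linearIndependent_three ?_ fun hmem => ?_
    · exact (LinearIndependent.pair_iff' hκ0).2 fun c hc => ha (hspan a
        (Submodule.mem_span_singleton.2 ⟨c, hc⟩))
    · obtain ⟨c, d, hcd⟩ := Submodule.mem_span_pair.1 hmem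
      refine hxκ (hker x ?_)
      have hx' : φ (c • κ + d • a) x = x := by rw [hcd, hφx]
      rw [← hx', map_add, LinearMap.add_apply, map_smul, map_smul, LinearMap.smul_apply,
        LinearMap.smul_apply, map_add, map_smul, map_smul, h1, haσ, smul_zero, smul_zero, add_zero]
  by_cases haN : ∀ w, π (φ a w) = 0
  · refine T.not_pair_line hV h2 hc hind (T.mul x κ) ?_ ?_
    · rw [hmul κ a, hmul a κ]
      exact Submodule.sub_mem _ (hline _ (h1 a)) (hline _ (haN κ))
    · rw [hmul κ x]
      exact Submodule.sub_mem _ (hline _ (h1 x)) (Submodule.mem_span_singleton_self _)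
  · refine haN fun v => ?_
    -- elements killing degree two on the left lie on the line of `κ`
    by_contra hv
    have hN : φ a v ∈ Submodule.span k ({κ, a} : Set V) := by
      by_contra hn
      have hind' : LinearIndependent k ![κ, a, φ a v] := by
        exact linearIndependent_three ((LinearIndependent.pair_iff' hκ0).2 fun c hc => ha (hspan a
          (Submodule.mem_span_singleton.2 ⟨c, hc⟩))) hn
      let b := basisOfLinearIndependentOfCardEqFinrank hind' (by simp [hV])
      have hzero : π ∘ₗ φ.flip x = 0 := b.ext fun i => by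
        fin_cases i <;> simp [b, h1, haσ, hav]
      exact hxκ (hker x (by
        conv_lhs => rw [← hφx x]
        exact LinearMap.congr_fun hzero x))
    obtain ⟨c, d, hcd⟩ := Submodule.mem_span_pair.1 hN
    have hd : d = 0 := by
      by_contra hd
      refine haN fun w => ?_
      have := hav v w
      rw [← hcd, map_add, map_smul, map_smul, LinearMap.add_apply, LinearMap.smul_apply,
        LinearMap.smul_apply, map_add, map_smul, map_smul, h1, smul_zero, zero_add,
        smul_eq_zero] at this
      exact this.resolve_left hd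
    exact hv (hspan _ (Submodule.mem_span_singleton.2 ⟨c, by rw [← hcd, hd, zero_smul, add_zero]⟩))

end Triple

end CfsgLib.BlockA.LocalFive
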