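import Mathlib

/-!
Three graded pieces `V`, `R₂`, `R₃` of an algebra generated in degree one: bilinear products,
their flip, and elementary facts about bilinear maps of rank one.
-/

set_option autoImplicit false
set_option linter.unusedSectionVars false

namespace CfsgLib.BlockA.LocalFive

open Module

/-- Degrees one, two and three of a graded algebra generated in degree one. -/
structure Triple (k V R₂ R₃ : Type*) [Field k] [AddCommGroup V] [Module k V] [AddCommGroup R₂]
    [Module k R₂] [AddCommGroup R₃] [Module k R₃] where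
  mul : V →ₗ[k] V →ₗ[k] R₂
  left : V →ₗ[k] R₂ →ₗ[k] R₃
  right : R₂ →ₗ[k] V →ₗ[k] R₃
  assoc : ∀ u v w, left u (mul v w) = right (mul u v) w
  span2 : ∀ f : R₂ →ₗ[k] k, (∀ u v, f (mul u v) = 0) → f = 0
  span3 : ∀ f : R₃ →ₗ[k] k, (∀ u r, f (left u r) = 0) → f = 0

variable {k V R₂ R₃ : Type*} [Field k] [AddCommGroup V] [Module k V] [AddCommGroup R₂]
  [Module k R₂] [AddCommGroup R₃] [Module k R₃]

namespace Triple

variable (T : Triple k V R₂ R₃)

/-- Degree two consists of commutators. -/
def Comm2 : Prop :=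
  ∀ f : R₂ →ₗ[k] k, (∀ u v, f (T.mul u v) = f (T.mul v u)) → f = 0

/-- Degree three consists of commutators. -/
def Comm3 : Prop :=
  ∀ f : R₃ →ₗ[k] k, (∀ u r, f (T.left u r) = f (T.right r u)) → f = 0

theorem right_span (f : R₃ →ₗ[k] k) (h : ∀ r w, f (T.right r w) = 0) : f = 0 := by
  refine T.span3 f fun u => ?_
  exact LinearMap.congr_fun (T.span2 (f.comp (T.left u)) fun v w => by
    simp [T.assoc, h])

/-- The opposite algebra. -/
def flip : Triple k V R₂ R₃ where
  mul := T.mul.flip
  left := T.right.flip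
  right := T.left.flip
  assoc u v w := by simp [T.assoc]
  span2 f h := T.span2 f fun u v => by simpa using h v u
  span3 f h := T.right_span f fun r w => by simpa using h w r

@[simp] theorem flip_mul (u v : V) : T.flip.mul u v = T.mul v u := rfl
@[simp] theorem flip_left (u : V) (r : R₂) : T.flip.left u r = T.right r u := rfl
@[simp] theorem flip_right (u : V) (r : R₂) : T.flip.right r u = T.left u r := rfl

theorem comm2_flip (h : T.Comm2) : T.flip.Comm2 := fun f hf =>
  h f fun u v => by simpa using hf v u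

theorem comm3_flip (h : T.Comm3) : T.flip.Comm3 := fun f hf =>
  h f fun u r => by simpa using (hf u r).symm

theorem comm3_of_words (h : T.Comm3) (f : R₃ →ₗ[k] k)
    (hf : ∀ u v w, f (T.left u (T.mul v w)) = f (T.right (T.mul v w) u)) : f = 0 := by
  refine h f fun u r => ?_
  have e := T.span2 (f.comp (T.left u) - f.comp (T.right.flip u)) fun v w => by
    simp [hf u v w]
  simpa [sub_eq_zero] using LinearMap.congr_fun e r

end Triple

theorem dual_separates {M : Type*} [AddCommGroup M] [Module k M] {x : M}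
    (h : ∀ f : M →ₗ[k] k, f x = 0) : x = 0 :=
  (Module.forall_dual_apply_eq_zero_iff k x).1 h

/-- A functional vanishing on a basis of commutators vanishes on all commutators. -/
theorem comm_span {n : ℕ} (T : Triple k V R₂ R₃) (hc : T.Comm2) (b : Basis (Fin n) k V) :
    Submodule.span k (Set.range fun q : {q : Fin n × Fin n // q.1 < q.2} =>
      T.mul (b q.1.1) (b q.1.2) - T.mul (b q.1.2) (b q.1.1)) = ⊤ := by
  classical
  by_contra h
  obtain ⟨f, hf0, hf⟩ := Submodule.exists_dual_map_eq_bot_of_lt_top (lt_top_iff_ne_top.2 h)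
    inferInstance
  refine hf0 (hc f ?_)
  have hq : ∀ i j, i < j → f (T.mul (b i) (b j)) = f (T.mul (b j) (b i)) := fun i j hij => by
    have hm : T.mul (b i) (b j) - T.mul (b j) (b i) ∈ Submodule.span k (Set.range fun q :
        {q : Fin n × Fin n // q.1 < q.2} =>
          T.mul (b q.1.1) (b q.1.2) - T.mul (b q.1.2) (b q.1.1)) :=
      Submodule.subset_span ⟨⟨(i, j), hij⟩, rfl⟩
    have h0 := Submodule.mem_map_of_mem (f := f) hm
    rw [hf, Submodule.mem_bot, map_sub, sub_eq_zero] at h0
    exact h0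
  have e : T.mul.compr₂ f = (T.mul.compr₂ f).flip := by
    refine b.ext fun i => b.ext fun j => ?_
    rcases lt_trichotomy i j with hij | rfl | hij
    · simpa using hq i j hij
    · simp
    · simpa using (hq j i hij).symm
  exact fun u v => by simpa using LinearMap.congr_fun (LinearMap.congr_fun e u) v

/-- Three independent vectors of a three-space give three independent commutators. -/
theorem comm_indep [FiniteDimensional k V] [FiniteDimensional k R₂] (T : Triple k V R₂ R₃)
    (hc : T.Comm2) (h3 : finrank k V = 3) {p q r : V} (hl : LinearIndependent k ![p, q, r]) :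
    finrank k R₂ ≤ finrank k (Submodule.span k (Set.range ![T.mul p q - T.mul q p,
      T.mul p r - T.mul r p, T.mul q r - T.mul r q])) := by
  classical
  let b := basisOfLinearIndependentOfCardEqFinrank hl (by simp [h3])
  have hb : ∀ i, b i = ![p, q, r] i := fun i => by simp [b]
  refine le_trans (le_of_eq (finrank_top k R₂).symm) (Submodule.finrank_mono ?_)
  rw [← comm_span T hc b, Submodule.span_le]
  rintro _ ⟨⟨⟨i, j⟩, hij⟩, rfl⟩
  have h0 : (i = 0 ∧ j = 1) ∨ (i = 0 ∧ j = 2) ∨ (i = 1 ∧ j = 2) := by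
    revert hij
    fin_cases i <;> fin_cases j <;> simp
  rcases h0 with ⟨rfl, rfl⟩ | ⟨rfl, rfl⟩ | ⟨rfl, rfl⟩
  · exact Submodule.subset_span ⟨0, by simp [hb]⟩
  · exact Submodule.subset_span ⟨1, by simp [hb]⟩
  · exact Submodule.subset_span ⟨2, by simp [hb]⟩

/-- Two maps of rank one with different images, whose combination has rank one, have one kernel. -/
theorem kills {U W : Type*} [AddCommGroup U] [Module k U] [AddCommGroup W] [Module k W]
    (m : U →ₗ[k] W →ₗ[k] R₂) {x y : U} {c : k} (hc : c ≠ 0)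
    (hy : ∃ r, ∀ w, m y w ∈ Submodule.span k {r})
    (hxy : ∃ r, ∀ w, m (x + c • y) w ∈ Submodule.span k {r}) {v : W} (hv : m x v = 0)
    (hyv : m y v ≠ 0) (w : W) : m x w ∈ Submodule.span k {m y v} := by
  obtain ⟨r, hr⟩ := hxy
  obtain ⟨s, hs⟩ := hy
  have h1 : m y v ∈ Submodule.span k {r} := by
    have h := hr v
    rw [map_add, map_smul, LinearMap.add_apply, LinearMap.smul_apply, hv, zero_add] at h
    exact (Submodule.smul_mem_iff _ hc).1 h
  have h2 : Submodule.span k {r} ≤ Submodule.span k {m y v} := by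
    obtain ⟨a, ha⟩ := Submodule.mem_span_singleton.1 h1
    have ha0 : a ≠ 0 := fun e => hyv (by rw [← ha, e, zero_smul])
    rw [Submodule.span_singleton_le_iff_mem, Submodule.mem_span_singleton]
    exact ⟨a⁻¹, by rw [← ha, inv_smul_smul₀ ha0]⟩
  have h3 : m y w ∈ Submodule.span k {m y v} := by
    obtain ⟨a, ha⟩ := Submodule.mem_span_singleton.1 (hs v)
    obtain ⟨a', ha'⟩ := Submodule.mem_span_singleton.1 (hs w)
    have ha0 : a ≠ 0 := fun e => hyv (by rw [← ha, e, zero_smul])
    exact Submodule.mem_span_singleton.2 ⟨a' * a⁻¹, by rw [← ha, smul_smul, ← ha',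
      mul_assoc, inv_mul_cancel₀ ha0, mul_one]⟩
  have h4 := h2 (hr w)
  rw [map_add, map_smul, LinearMap.add_apply, LinearMap.smul_apply] at h4
  simpa using Submodule.sub_mem _ h4 (Submodule.smul_mem _ c h3)

/-- Maps of rank one with images not in one line have a common kernel. -/
theorem ker_common {U W : Type*} [AddCommGroup U] [Module k U] [AddCommGroup W] [Module k W]
    (m : U →ₗ[k] W →ₗ[k] R₂) (S : Set U)
    (hS : ∀ x ∈ S, ∃ r, ∀ w, m x w ∈ Submodule.span k {r})
    (hmix : ∀ x ∈ S, ∀ y ∈ S, ∃ c : k, c ≠ 0 ∧ x + c • y ∈ S)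
    (hline : ∀ r, ∃ x ∈ S, ∃ w, m x w ∉ Submodule.span k {r}) {x : U} (hx : x ∈ S) {v : W}
    (hv : m x v = 0) (hne : ∃ w, m x w ≠ 0) {y : U} (hy : y ∈ S) : m y v = 0 := by
  by_contra hyv
  obtain ⟨w₁, hw₁⟩ := hne
  have hsub : ∀ {a b : U}, a ∈ S → b ∈ S → m a v = 0 → m b v ≠ 0 →
      ∀ w, m a w ∈ Submodule.span k {m b v} := fun {a b} ha hb h0 h1 w => by
    obtain ⟨c, hc, hm⟩ := hmix a ha b hb
    exact kills m hc (hS b hb) (hS _ hm) h0 h1 w
  obtain ⟨z, hz, w₂, hw₂⟩ := hline (m y v)
  rcases eq_or_ne (m z v) 0 with hzv | hzv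
  · exact hw₂ (hsub hz hy hzv hyv w₂)
  · have h1 := hsub hx hz hv hzv w₁
    have h2 := hsub hx hy hv hyv w₁
    obtain ⟨a, ha⟩ := Submodule.mem_span_singleton.1 h1
    obtain ⟨a', ha'⟩ := Submodule.mem_span_singleton.1 h2
    have ha0 : a ≠ 0 := fun e => hw₁ (by rw [← ha, e, zero_smul])
    have hzy : m z v ∈ Submodule.span k {m y v} :=
      Submodule.mem_span_singleton.2 ⟨a⁻¹ * a', by rw [← smul_smul, ha', ← ha, inv_smul_smul₀ ha0]⟩
    obtain ⟨r, hr⟩ := hS z hz
    obtain ⟨d, hd⟩ := Submodule.mem_span_singleton.1 (hr v)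
    obtain ⟨d', hd'⟩ := Submodule.mem_span_singleton.1 (hr w₂)
    have hd0 : d ≠ 0 := fun e => hzv (by rw [← hd, e, zero_smul])
    refine hw₂ (?_ : m z w₂ ∈ _)
    rw [← hd', show r = d⁻¹ • m z v by rw [← hd, inv_smul_smul₀ hd0], smul_smul]
    exact Submodule.smul_mem _ _ hzy

end CfsgLib.BlockA.LocalFive
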