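import Cfsg.Agent.Lib.BlockA.LocalCentre
import Cfsg.Agent.Lib.BlockA.LocalFive.Triple

/-!
The graded pieces of a local algebra, and facts about local symmetric algebras: ideals of
commutators vanish, and a one-dimensional piece makes the power before it central.
-/

set_option autoImplicit false
set_option linter.unusedSectionVars false

namespace CfsgLib.BlockA.LocalFive

open Module Submodule LocalCentre

variable {k A : Type*} [Field k] [Ring A] [Algebra k A] [FiniteDimensional k A] (ε : A →ₐ[k] k)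

/-- The successive quotient of the powers of the augmentation ideal. -/
abbrev Piece (n : ℕ) : Type _ :=
  ↥(aug ε ^ n) ⧸ (aug ε ^ (n + 1)).comap (aug ε ^ n).subtype

/-- The class of an element of a power of the augmentation ideal. -/
def mkP (n : ℕ) : ↥(aug ε ^ n) →ₗ[k] Piece ε n :=
  ((aug ε ^ (n + 1)).comap (aug ε ^ n).subtype).mkQ

theorem mkP_surjective (n : ℕ) : Function.Surjective (mkP ε n) :=
  Submodule.mkQ_surjective _

theorem mkP_eq_zero {n : ℕ} {x : ↥(aug ε ^ n)} : mkP ε n x = 0 ↔ (x : A) ∈ aug ε ^ (n + 1) :=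
  Submodule.Quotient.mk_eq_zero _

theorem mkP_eq {n : ℕ} {x y : ↥(aug ε ^ n)} :
    mkP ε n x = mkP ε n y ↔ (x : A) - y ∈ aug ε ^ (n + 1) :=
  Submodule.Quotient.eq _

theorem mem_pow_mul {i j l : ℕ} (h : i + j = l) {a b : A} (ha : a ∈ aug ε ^ i)
    (hb : b ∈ aug ε ^ j) : a * b ∈ aug ε ^ l := by
  rw [← h, pow_add]
  exact mul_mem_mul ha hb

theorem mem_aug_pow_one {a : A} : a ∈ aug ε ^ 1 ↔ a ∈ aug ε := by rw [pow_one]

/-- The product of two pieces. -/
def pmul (i j l : ℕ) (h : i + j = l) : Piece ε i →ₗ[k] Piece ε j →ₗ[k] Piece ε l :=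
  LinearMap.liftQ₂ _ _
    (LinearMap.mk₂ k (fun a b => mkP ε l ⟨a.1 * b.1, mem_pow_mul ε h a.2 b.2⟩)
      (fun a a' b => by rw [← map_add]; exact congrArg _ (Subtype.ext (add_mul a.1 a'.1 b.1)))
      (fun c a b => by rw [← map_smul]; exact congrArg _ (Subtype.ext (smul_mul_assoc c a.1 b.1)))
      (fun a b b' => by rw [← map_add]; exact congrArg _ (Subtype.ext (mul_add a.1 b.1 b'.1)))
      (fun c a b => by rw [← map_smul]; exact congrArg _ (Subtype.ext (mul_smul_comm c a.1 b.1))))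
    (fun a ha => LinearMap.mem_ker.2 (LinearMap.ext fun b =>
      (mkP_eq_zero ε).2 (mem_pow_mul ε (by omega) (Submodule.mem_comap.1 ha) b.2)))
    (fun b hb => LinearMap.mem_ker.2 (LinearMap.ext fun a =>
      (mkP_eq_zero ε).2 (mem_pow_mul ε (by omega) a.2 (Submodule.mem_comap.1 hb))))

theorem pmul_mk {i j l : ℕ} (h : i + j = l) (a : ↥(aug ε ^ i)) (b : ↥(aug ε ^ j)) :
    pmul ε i j l h (mkP ε i a) (mkP ε j b) = mkP ε l ⟨a.1 * b.1, mem_pow_mul ε h a.2 b.2⟩ :=
  rfl

theorem pmul_assoc {i j l ij jl n : ℕ} (h₁ : i + j = ij) (h₂ : ij + l = n) (h₃ : j + l = jl)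
    (h₄ : i + jl = n) (u : Piece ε i) (v : Piece ε j) (w : Piece ε l) :
    pmul ε ij l n h₂ (pmul ε i j ij h₁ u v) w = pmul ε i jl n h₄ u (pmul ε j l jl h₃ v w) := by
  obtain ⟨a, rfl⟩ := mkP_surjective ε i u
  obtain ⟨b, rfl⟩ := mkP_surjective ε j v
  obtain ⟨c, rfl⟩ := mkP_surjective ε l w
  simp only [pmul_mk, mul_assoc]

theorem piece_ext {i j l : ℕ} (h : i + j = l) (f : Piece ε l →ₗ[k] k)
    (hf : ∀ u v, f (pmul ε i j l h u v) = 0) : f = 0 := by
  refine LinearMap.ext fun q => ?_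
  obtain ⟨⟨x, hx⟩, rfl⟩ := mkP_surjective ε l q
  have hx' : x ∈ aug ε ^ i * aug ε ^ j := by rw [← pow_add, h]; exact hx
  rw [LinearMap.zero_apply]
  suffices ∀ hx : x ∈ aug ε ^ l, f (mkP ε l ⟨x, hx⟩) = 0 from this hx
  clear hx
  induction hx' using Submodule.mul_induction_on' with
  | mem_mul_mem a ha b hb => exact fun _ => hf (mkP ε i ⟨a, ha⟩) (mkP ε j ⟨b, hb⟩)
  | add a ha b hb iha ihb =>
    intro hab
    have ha' : a ∈ aug ε ^ l := by rw [← h, pow_add]; exact ha
    have hb' : b ∈ aug ε ^ l := by rw [← h, pow_add]; exact hb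
    rw [show (⟨a + b, hab⟩ : ↥(aug ε ^ l)) = ⟨a, ha'⟩ + ⟨b, hb'⟩ from rfl, map_add, map_add,
      iha ha', ihb hb', add_zero]

/-- Degrees one to three. -/
def triple : Triple k (Piece ε 1) (Piece ε 2) (Piece ε 3) where
  mul := pmul ε 1 1 2 rfl
  left := pmul ε 1 2 3 rfl
  right := pmul ε 2 1 3 rfl
  assoc u v w := (pmul_assoc ε rfl rfl rfl rfl u v w).symm
  span2 f hf := piece_ext ε (i := 1) (j := 1) rfl f hf
  span3 f hf := piece_ext ε (i := 1) (j := 2) rfl f hf

theorem finrank_piece {n : ℕ} (hn : 1 ≤ n) :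
    finrank k (Piece ε n) + finrank k (aug ε ^ (n + 1) : Submodule k A) =
      finrank k (aug ε ^ n : Submodule k A) := by
  rw [← ((aug ε ^ (n + 1)).comap (aug ε ^ n).subtype).finrank_quotient_add_finrank,
    (Submodule.comapSubtypeEquivOfLe (pow_le_pow ε hn (Nat.le_succ n))).finrank_eq]

theorem finrank_aug : finrank k A = finrank k (aug ε) + 1 := by
  have h := LinearMap.finrank_range_add_finrank_ker ε.toLinearMap
  have hs : LinearMap.range ε.toLinearMap = ⊤ := LinearMap.range_eq_top.2 fun c =>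
    ⟨algebraMap k A c, by simp⟩
  rw [hs, finrank_top, finrank_self] at h
  show _ = finrank k (LinearMap.ker ε.toLinearMap) + 1
  omega

/-- Generators of a piece generate the power modulo the next. -/
theorem le_span_of_piece {n : ℕ} (s : Set ↥(aug ε ^ n))
    (h : Submodule.span k (mkP ε n '' s) = ⊤) :
    aug ε ^ n ≤ Submodule.span k (Subtype.val '' s) ⊔ aug ε ^ (n + 1) := by
  intro x hx
  obtain ⟨y, hy, e⟩ : mkP ε n ⟨x, hx⟩ ∈ (Submodule.span k s).map (mkP ε n) := by
    rw [Submodule.map_span, h]; trivial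
  refine Submodule.mem_sup.2 ⟨y, ?_, x - y, ?_, by abel⟩
  · rw [show (Subtype.val '' s) = (aug ε ^ n).subtype '' s from rfl, ← LinearMap.map_span]
    exact ⟨y, hy, rfl⟩
  · exact (mkP_eq ε).1 e.symm

/-- The span of the commutators. -/
def comms (k A : Type*) [Field k] [Ring A] [Algebra k A] : Submodule k A :=
  Submodule.span k (Set.range fun q : A × A => q.1 * q.2 - q.2 * q.1)

theorem comm_mem (a b : A) : a * b - b * a ∈ comms k A := subset_span ⟨(a, b), rfl⟩

theorem comm_eq_comm_aug (a b : A) : a * b - b * a =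
    (a - algebraMap k A (ε a)) * (b - algebraMap k A (ε b)) -
      (b - algebraMap k A (ε b)) * (a - algebraMap k A (ε a)) := by
  simp only [mul_sub, sub_mul, Algebra.algebraMap_eq_smul_one, smul_mul_assoc, mul_smul_comm,
    one_mul, mul_one, smul_smul, smul_sub]
  module

theorem comms_le_sq : comms k A ≤ aug ε ^ 2 := by
  rw [comms, span_le]
  rintro _ ⟨⟨a, b⟩, rfl⟩
  show a * b - b * a ∈ _
  rw [comm_eq_comm_aug ε a b, pow_two]
  exact sub_mem (mul_mem_mul (sub_mem_aug ε a) (sub_mem_aug ε b))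
    (mul_mem_mul (sub_mem_aug ε b) (sub_mem_aug ε a))

theorem mul_mem_comms {z w : A} (hz : ∀ y, z * y = y * z) (hw : w ∈ comms k A) :
    z * w ∈ comms k A := by
  induction hw using Submodule.span_induction with
  | mem w hw =>
    obtain ⟨⟨a, b⟩, rfl⟩ := hw
    have : z * (a * b - b * a) = z * a * b - b * (z * a) := by
      rw [mul_sub, mul_assoc, ← mul_assoc b, ← hz b, mul_assoc z b]
    show z * (a * b - b * a) ∈ _
    rw [this]
    exact comm_mem _ _
  | zero => simp
  | add a b _ _ ha hb => rw [mul_add]; exact add_mem ha hb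
  | smul c a _ ha => rw [mul_smul_comm]; exact smul_mem _ c ha

/-- An element commuting with the augmentation ideal is central. -/
theorem central_of_comm_aug {z : A} (h : ∀ j ∈ aug ε, z * j = j * z) (y : A) : z * y = y * z := by
  have := h _ (sub_mem_aug ε y)
  rw [mul_sub, sub_mul, ← Algebra.commutes (ε y) z, sub_left_inj] at this
  exact this

/-- Generators of the augmentation ideal generate the algebra. -/
theorem adjoin_eq_top (hN : ∃ N : ℕ, aug ε ^ N = ⊥) (s : Set A) (hs : s ⊆ aug ε)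
    (hgen : aug ε ≤ span k s ⊔ aug ε ^ 2) : Algebra.adjoin k s = ⊤ := by
  obtain ⟨N, hN⟩ := hN
  set P := (Algebra.adjoin k s).toSubmodule
  have hsP : span k s ≤ P := span_le.2 fun x hx => Algebra.subset_adjoin hx
  have hstep : ∀ i, aug ε ≤ P ⊔ aug ε ^ (i + 2) := by
    intro i
    induction i with
    | zero => exact hgen.trans (sup_le_sup_right hsP _)
    | succ i ih =>
      refine hgen.trans (sup_le (hsP.trans le_sup_left) ?_)
      rw [pow_two, Submodule.mul_le]
      intro a ha b hb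
      obtain ⟨a₁, ha₁, a₂, ha₂, rfl⟩ := mem_sup.1 (ih ha)
      obtain ⟨b₁, hb₁, b₂, hb₂, rfl⟩ := mem_sup.1 (ih hb)
      rw [add_mul, mul_add a₁, add_assoc (a₁ * b₁)]
      refine Submodule.add_mem_sup
        (show a₁ * b₁ ∈ P from (Algebra.adjoin k s).mul_mem ha₁ hb₁) (add_mem ?_ ?_)
      · have ha₁J : a₁ ∈ aug ε := by
          have h2 : a₂ ∈ aug ε :=
            (mem_aug_pow_one ε).1 (pow_le_pow ε le_rfl (show 1 ≤ i + 2 by omega) ha₂)
          simpa using sub_mem ha h2
        exact mem_pow_mul ε (by omega) ((mem_aug_pow_one ε).2 ha₁J) hb₂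
      · exact mem_pow_mul ε (by omega) ha₂ ((mem_aug_pow_one ε).2 hb)
  refine eq_top_iff.2 fun a _ => ?_
  have hJP : aug ε ≤ P := by
    refine (hstep N).trans (sup_le le_rfl ?_)
    rw [pow_add, hN, Submodule.bot_mul]
    exact bot_le
  rw [show a = (a - algebraMap k A (ε a)) + algebraMap k A (ε a) by abel]
  exact add_mem (hJP (sub_mem_aug ε a)) (Subalgebra.algebraMap_mem _ _)

variable (hnil : ∀ x, ε x = 0 → IsNilpotent x)
include hnil

theorem pow_eq_bot_of_le {n : ℕ} (h : aug ε ^ (n + 1) ≤ aug ε ^ (n + 2)) :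
    aug ε ^ (n + 1) = ⊥ := by
  obtain ⟨N, hN⟩ := exists_pow_eq_bot ε hnil
  have hiter : ∀ i, aug ε ^ (n + 1) ≤ aug ε ^ (n + 1 + i) := by
    intro i
    induction i with
    | zero => exact le_rfl
    | succ i ih =>
      refine h.trans ?_
      rw [pow_succ, show n + 1 + (i + 1) = n + 1 + i + 1 by omega, pow_succ _ (n + 1 + i)]
      exact mul_le_mul' ih le_rfl
  refine le_bot_iff.1 ((hiter N).trans ?_)
  rw [pow_add, hN, Submodule.mul_bot]

theorem piece_pos {n : ℕ} (h : aug ε ^ (n + 1) ≠ ⊥) : 1 ≤ finrank k (Piece ε (n + 1)) := by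
  have h1 : aug ε ^ (n + 2) < aug ε ^ (n + 1) :=
    lt_of_le_not_ge (pow_succ_le ε n) fun hle => h (pow_eq_bot_of_le ε hnil hle)
  have := Submodule.finrank_lt_finrank_of_lt h1
  have : finrank k (Piece ε (n + 1)) + finrank k (aug ε ^ (n + 2) : Submodule k A) =
      finrank k (aug ε ^ (n + 1) : Submodule k A) := finrank_piece ε (by omega)
  omega

theorem exists_last {l : ℕ} (h : aug ε ^ l ≠ ⊥) :
    ∃ m, l ≤ m ∧ aug ε ^ m ≠ ⊥ ∧ aug ε ^ (m + 1) = ⊥ := by
  classical
  obtain ⟨N, hN⟩ := exists_pow_eq_bot ε hnil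
  have hex : ∃ i, aug ε ^ (l + i + 1) = ⊥ :=
    ⟨N, by rw [show l + N + 1 = N + (l + 1) by omega, pow_add, hN, Submodule.bot_mul]⟩
  refine ⟨l + Nat.find hex, Nat.le_add_right _ _, ?_, Nat.find_spec hex⟩
  rcases Nat.eq_zero_or_pos (Nat.find hex) with h0 | h0
  · rwa [h0, add_zero]
  · intro hb
    refine Nat.find_min hex (Nat.sub_lt h0 one_pos) ?_
    rwa [show l + (Nat.find hex - 1) + 1 = l + Nat.find hex by omega]

variable (t : A →ₗ[k] k) (hsymm : ∀ x y, t (x * y) = t (y * x))
  (hnd : ∀ x, (∀ y, t (x * y) = 0) → x = 0)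
include hsymm hnd

theorem trace_comms {w : A} (hw : w ∈ comms k A) : t w = 0 := by
  induction hw using Submodule.span_induction with
  | mem w hw => obtain ⟨⟨a, b⟩, rfl⟩ := hw; rw [map_sub, hsymm a b, sub_self]
  | zero => simp
  | add a b _ _ ha hb => rw [map_add, ha, hb, add_zero]
  | smul r a _ ha => rw [map_smul, ha, smul_zero]

/-- A right ideal inside the commutators vanishes. -/
theorem eq_zero_of_right_ideal {I : Submodule k A} (hI : ∀ x ∈ I, ∀ y, x * y ∈ I)
    (hle : I ≤ comms k A) {x : A} (hx : x ∈ I) : x = 0 :=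
  hnd x fun y => trace_comms ε hnil t hsymm hnd (hle (hI x hx y))

theorem pow_mul_mem {n : ℕ} {x : A} (hx : x ∈ aug ε ^ (n + 1)) (y : A) :
    x * y ∈ aug ε ^ (n + 1) := by
  rw [show x * y = x * (y - algebraMap k A (ε y)) + ε y • x by
    rw [mul_sub, Algebra.algebraMap_eq_smul_one, mul_smul_comm, mul_one, sub_add_cancel]]
  exact add_mem (pow_succ_le ε n (mem_pow_mul ε (i := n + 1) (j := 1) rfl hx
    ((mem_aug_pow_one ε).2 (sub_mem_aug ε y))))
    (smul_mem _ _ hx)

theorem not_le_comms {n : ℕ} (h : aug ε ^ (n + 1) ≠ ⊥) : ¬ aug ε ^ (n + 1) ≤ comms k A :=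
  fun hle => h (eq_bot_iff.2 fun x hx => (mem_bot k).2 (eq_zero_of_right_ideal ε hnil t hsymm hnd
    (fun _ hx y => pow_mul_mem ε hnil t hsymm hnd hx y) hle hx))

theorem finrank_last_le_one {n : ℕ} (h : aug ε ^ (n + 1) = ⊥) :
    finrank k (aug ε ^ n : Submodule k A) ≤ 1 := by
  let f : ↥(aug ε ^ n) →ₗ[k] k := t ∘ₗ (aug ε ^ n).subtype
  have hf : Function.Injective f := (injective_iff_map_eq_zero f).2 fun x hx => by
    refine Subtype.ext (hnd _ fun y => ?_)
    have h0 : x.1 * (y - algebraMap k A (ε y)) = 0 := by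
      have := mem_pow_mul ε rfl x.2 ((mem_aug_pow_one ε).2 (sub_mem_aug ε y))
      rw [h, mem_bot] at this
      exact this
    rw [mul_sub, sub_eq_zero] at h0
    rw [h0, Algebra.algebraMap_eq_smul_one, mul_smul_comm, mul_one, map_smul,
      show t x.1 = 0 from hx, smul_zero]
  have := LinearMap.finrank_le_finrank_of_injective hf
  rwa [finrank_self] at this

theorem finrank_le_comms_add {c : ℕ} (hZ : finrank k (Subalgebra.center k A).toSubmodule ≤ c) :
    finrank k A ≤ finrank k (comms k A) + c := by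
  let Φ : A →ₗ[k] Module.Dual k (comms k A) :=
    ((LinearMap.mul k A).compr₂ t).compl₂ (comms k A).subtype
  have h1 := LinearMap.finrank_range_add_finrank_ker Φ
  have h2 : finrank k (LinearMap.range Φ) ≤ finrank k (comms k A) :=
    ((LinearMap.range Φ).finrank_le).trans Subspace.dual_finrank_eq.le
  have h3 : LinearMap.ker Φ ≤ (Subalgebra.center k A).toSubmodule := by
    intro a ha
    rw [Subalgebra.mem_toSubmodule, Subalgebra.mem_center_iff]
    intro b
    refine (sub_eq_zero.1 (hnd _ fun y => ?_)).symm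
    have h : t (a * (b * y - y * b)) = 0 :=
      LinearMap.congr_fun (LinearMap.mem_ker.1 ha) ⟨_, comm_mem b y⟩
    rw [sub_mul, map_sub, mul_assoc b, hsymm b, ← h]
    simp only [mul_sub, map_sub, mul_assoc]
  have h4 := Submodule.finrank_mono h3
  omega

/-- A product not in the next power makes its right factor central, if the piece is a line. -/
theorem central_of_line_aux {n : ℕ} (hp : finrank k (Piece ε (n + 1)) ≤ 1) {u w : A}
    (hu : u ∈ aug ε) (hw : w ∈ aug ε ^ n) (huw : u * w ∉ aug ε ^ (n + 2)) (y : A) :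
    w * y = y * w := by
  have huw' : u * w ∈ aug ε ^ (n + 1) := mem_pow_mul ε (by omega) ((mem_aug_pow_one ε).2 hu) hw
  have hbase : aug ε ^ (n + 1) ≤ span k {u * w} ⊔ aug ε ^ (n + 2) := by
    refine ge_of_eq (Submodule.eq_of_le_of_finrank_le
      (sup_le (span_le.2 (by simpa using huw')) (pow_succ_le ε n)) ?_)
    have hlt : aug ε ^ (n + 2) < span k {u * w} ⊔ aug ε ^ (n + 2) :=
      lt_of_le_of_ne le_sup_right fun h => huw (by rw [h]; exact mem_sup_left (subset_span rfl))
    have := Submodule.finrank_lt_finrank_of_lt hlt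
    have : finrank k (Piece ε (n + 1)) + finrank k (aug ε ^ (n + 2) : Submodule k A) =
        finrank k (aug ε ^ (n + 1) : Submodule k A) := finrank_piece ε (by omega)
    omega
  set P := (Algebra.adjoin k {u}).toSubmodule.map (LinearMap.mulRight k w)
  have huP : ∀ j : ℕ, u ^ j * w ∈ P := fun j =>
    ⟨u ^ j, (Algebra.adjoin k {u}).pow_mem (Algebra.subset_adjoin rfl) j, rfl⟩
  have hstep : ∀ j, aug ε ^ (n + 1 + j) ≤ span k {u ^ (j + 1) * w} ⊔ aug ε ^ (n + 2 + j) := by
    intro j
    induction j with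
    | zero => simpa using hbase
    | succ j ih =>
      rw [pow_add (aug ε) (n + 1) (j + 1), Submodule.mul_le]
      intro a ha b hb
      obtain ⟨v, hv, a', ha', rfl⟩ := mem_sup.1 (hbase ha)
      obtain ⟨c, rfl⟩ := mem_span_singleton.1 hv
      have hwb : w * b ∈ aug ε ^ (n + 1 + j) := mem_pow_mul ε (by omega) hw hb
      obtain ⟨v', hv', b', hb', e⟩ := mem_sup.1 (ih hwb)
      obtain ⟨c', rfl⟩ := mem_span_singleton.1 hv'
      have : (c • (u * w) + a') * b =
          (c * c') • (u ^ (j + 1 + 1) * w) + (c • (u * b') + a' * b) := by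
        rw [add_mul, smul_mul_assoc, mul_assoc, ← e, mul_add, smul_add, mul_smul_comm, smul_smul,
          ← mul_assoc, ← pow_succ', add_assoc]
      rw [this]
      refine add_mem_sup (smul_mem _ _ (subset_span rfl)) (add_mem (smul_mem _ _ ?_) ?_)
      · exact mem_pow_mul ε (by omega) ((mem_aug_pow_one ε).2 hu) hb'
      · exact mem_pow_mul ε (by omega) ha' hb
  have hP : aug ε ^ (n + 1) ≤ P := by
    have hall : ∀ j, aug ε ^ (n + 1) ≤ P ⊔ aug ε ^ (n + 1 + j) := by
      intro j
      induction j with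
      | zero => exact le_sup_right
      | succ j ih =>
        refine ih.trans (sup_le le_sup_left ((hstep j).trans ?_))
        rw [show n + 2 + j = n + 1 + (j + 1) by omega]
        exact sup_le_sup_right (span_le.2 (by simpa using huP (j + 1))) _
    obtain ⟨N, hN⟩ := exists_pow_eq_bot ε hnil
    refine (hall N).trans (sup_le le_rfl ?_)
    rw [pow_add, hN, Submodule.mul_bot]
    exact bot_le
  refine central_of_comm_aug ε (fun b hb => (sub_eq_zero.1 ?_)) y
  have key : ∀ b ∈ aug ε, ∀ c ∈ aug ε, t (w * (b * c)) = t (w * (c * b)) := by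
    intro b hb c hc
    obtain ⟨Pb, hPb, eb⟩ := hP (mem_pow_mul ε rfl hw ((mem_aug_pow_one ε).2 hb))
    obtain ⟨Pc, hPc, ec⟩ := hP (mem_pow_mul ε rfl hw ((mem_aug_pow_one ε).2 hc))
    simp only [LinearMap.mulRight_apply] at eb ec
    have hcomm : Pb * Pc = Pc * Pb :=
      (Algebra.commute_of_mem_adjoin_singleton_of_commute hPc
        (Algebra.commute_of_mem_adjoin_self hPb).symm).eq
    rw [← mul_assoc, ← eb, mul_assoc, ← ec, ← mul_assoc, hcomm, mul_assoc, eb, ← mul_assoc, ec,
      mul_assoc]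
  refine hnd _ fun z => ?_
  have h1 : t (w * b - b * w) = 0 := by rw [map_sub, hsymm w b, sub_self]
  have h2 := key b hb _ (sub_mem_aug ε z)
  rw [show (w * b - b * w) * z = (w * b - b * w) * (z - algebraMap k A (ε z)) +
    ε z • (w * b - b * w) by
      rw [mul_sub, Algebra.algebraMap_eq_smul_one, mul_smul_comm, mul_one, sub_add_cancel],
    map_add, map_smul, h1, smul_zero, add_zero, sub_mul, map_sub, mul_assoc, h2, mul_assoc b w,
    hsymm b, mul_assoc, sub_self]

/-- **A line in degree `n + 1` makes degree `n` central.** -/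
theorem central_of_line {n : ℕ} (hn : aug ε ^ (n + 1) ≠ ⊥)
    (hp : finrank k (Piece ε (n + 1)) ≤ 1) {a : A} (ha : a ∈ aug ε ^ n) (y : A) :
    a * y = y * a := by
  obtain ⟨u, hu, w, hw, huw⟩ : ∃ u ∈ aug ε, ∃ w ∈ aug ε ^ n, u * w ∉ aug ε ^ (n + 2) := by
    by_contra h
    push Not at h
    refine hn (pow_eq_bot_of_le ε hnil ?_)
    rw [pow_succ', Submodule.mul_le]
    exact fun u hu w hw => h u hu w hw
  have hwc := central_of_line_aux ε hnil t hsymm hnd hp hu hw huw
  by_cases hua : u * a ∈ aug ε ^ (n + 2)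
  · have hsum : u * (a + w) ∉ aug ε ^ (n + 2) := fun h => huw (by
      have := sub_mem h hua
      rwa [mul_add, add_sub_cancel_left] at this)
    have h := central_of_line_aux ε hnil t hsymm hnd hp hu (add_mem ha hw) hsum y
    rw [add_mul, mul_add, hwc y, add_left_inj] at h
    exact h
  · exact central_of_line_aux ε hnil t hsymm hnd hp hu ha hua y

end CfsgLib.BlockA.LocalFive
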