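import Cfsg.Agent.Lib.BlockA.LocalFive.Annihilator

/-!
Three generators, three-dimensional degree two: an annihilator in degree one kills degree three,
and a pencil of functionals on degree three gives a generator with a line of multiples.
-/

set_option autoImplicit false
set_option linter.unusedSectionVars false
set_option maxHeartbeats 400000

namespace CfsgLib.BlockA.LocalFive

open Module

variable {k V R₂ R₃ : Type*} [Field k] [AddCommGroup V] [Module k V] [AddCommGroup R₂]
  [Module k R₂] [AddCommGroup R₃] [Module k R₃] [FiniteDimensional k V] [FiniteDimensional k R₂]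
  [FiniteDimensional k R₃]

/-- Two independent functionals. -/
theorem exists_dual_pair {M : Type*} [AddCommGroup M] [Module k M] [FiniteDimensional k M]
    (h : 2 ≤ finrank k M) :
    ∃ f g : M →ₗ[k] k, ∀ a b : k, a • f + b • g = 0 → a = 0 ∧ b = 0 := by
  classical
  let β := Module.finBasis k M
  refine ⟨β.coord ⟨0, by omega⟩, β.coord ⟨1, by omega⟩, fun a b e => ⟨?_, ?_⟩⟩
  · simpa [Finsupp.single_apply, Fin.ext_iff] using LinearMap.congr_fun e (β ⟨0, by omega⟩)
  · simpa [Finsupp.single_apply, Fin.ext_iff] using LinearMap.congr_fun e (β ⟨1, by omega⟩)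

/-- A linear map from a three-space to a smaller space has a non-zero kernel. -/
theorem exists_ker {W : Type*} [AddCommGroup W] [Module k W] [FiniteDimensional k W]
    (L : V →ₗ[k] W) (h : finrank k W < finrank k V) : ∃ v, v ≠ 0 ∧ L v = 0 := by
  obtain ⟨v, hv, hv0⟩ := (Submodule.ne_bot_iff _).1 (L.ker_ne_bot_of_finrank_lt h)
  exact ⟨v, hv0, hv⟩

namespace Triple

variable (T : Triple k V R₂ R₃)

/-- No commutator of independent vectors vanishes. -/
theorem comm_ne_zero (hV : finrank k V = 3) (h2 : finrank k R₂ = 3) (hc : T.Comm2) {p q : V}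
    (hl : LinearIndependent k ![p, q]) : T.mul p q ≠ T.mul q p := by
  intro e
  obtain ⟨r, hr⟩ := exists_two hV q hl
  have h := T.comm_pair_le hV hc hr (S := Submodule.span k {T.mul p r - T.mul r p})
    (by rw [e, sub_self]; exact Submodule.zero_mem _) (Submodule.mem_span_singleton_self _)
  have : finrank k (Submodule.span k {T.mul p r - T.mul r p}) ≤ 1 :=
    (finrank_span_le_card _).trans (by simp)
  omega

/-- The commutators with a vector outside a line fill a plane. -/
theorem not_pair_line (hV : finrank k V = 3) (h2 : finrank k R₂ = 3) (hc : T.Comm2) {p q r : V}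
    (hl : LinearIndependent k ![p, q, r]) (e : R₂)
    (h1 : T.mul p q - T.mul q p ∈ Submodule.span k {e})
    (h1' : T.mul p r - T.mul r p ∈ Submodule.span k {e}) : False := by
  have h := T.comm_pair_le hV hc hl h1 h1'
  have : finrank k (Submodule.span k {e}) ≤ 1 := (finrank_span_le_card _).trans (by simp)
  omega

/-- **An annihilator in degree one.** -/
theorem finrank_three_le_one_of_ann (hV : finrank k V = 3) (h2 : finrank k R₂ = 3) (hc : T.Comm2)
    {κ : V} (hκ0 : κ ≠ 0) (hκ : ∀ v, T.mul v κ = 0) : finrank k R₃ ≤ 1 := by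
  classical
  by_contra hR
  obtain ⟨f, f', hff⟩ := exists_dual_pair (k := k) (M := R₃) (by omega)
  set U := LinearMap.range (T.mul κ) with hU
  have hκker : κ ∈ LinearMap.ker (T.mul κ) := hκ κ
  have hU2 : finrank k U ≤ 2 := by
    have h := LinearMap.finrank_range_add_finrank_ker (T.mul κ)
    have h' : 1 ≤ finrank k (LinearMap.ker (T.mul κ)) :=
      Submodule.one_le_finrank_iff.2 fun e => hκ0 (by simpa [e] using hκker)
    rw [hU]
    omega
  have hUlt : U < ⊤ := lt_top_iff_ne_top.2 fun e => by
    rw [e, finrank_top] at hU2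
    omega
  obtain ⟨φ, hφ0, hφ⟩ := Submodule.exists_dual_map_eq_bot_of_lt_top hUlt inferInstance
  have hφU : ∀ y ∈ U, φ y = 0 := fun y hy => by
    have := Submodule.mem_map_of_mem (f := φ) hy
    rwa [hφ, Submodule.mem_bot] at this
  have hker : LinearMap.ker φ = U := by
    refine (Submodule.eq_of_le_of_finrank_le (fun y hy => hφU y hy) ?_).symm
    have h := LinearMap.finrank_range_add_finrank_ker φ
    have h' : 1 ≤ finrank k (LinearMap.range φ) := by
      rw [LinearMap.range_eq_top.2 (LinearMap.surjective hφ0), finrank_top, finrank_self]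
    have hU2' : 2 ≤ finrank k U := by
      obtain ⟨y, hy⟩ : ∃ y, y ∉ Submodule.span k {κ} := by
        by_contra h
        push Not at h
        have h1 := Submodule.finrank_mono (show (⊤ : Submodule k V) ≤ Submodule.span k {κ} from
          fun y _ => h y)
        have h2 : finrank k (Submodule.span k {κ}) ≤ 1 := (finrank_span_le_card _).trans (by simp)
        rw [finrank_top] at h1
        omega
      have hκy : LinearIndependent k ![κ, y] := LinearIndependent.pair_iff.2 fun a b hab => by
        have hb : b = 0 := by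
          by_contra hb
          refine hy ((Submodule.smul_mem_iff _ hb).1 ?_)
          rw [show b • y = -(a • κ) from eq_neg_of_add_eq_zero_right hab]
          exact Submodule.neg_mem _ (Submodule.smul_mem _ _ (Submodule.mem_span_singleton_self _))
        subst hb
        rw [zero_smul, add_zero, smul_eq_zero] at hab
        exact ⟨hab.resolve_right hκ0, rfl⟩
      obtain ⟨z, hz⟩ := exists_two hV y hκy
      have h := T.comm_pair_le hV hc hz (S := U) (by rw [hκ, sub_zero]; exact LinearMap.mem_range_self _ _)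
        (by rw [hκ, sub_zero]; exact LinearMap.mem_range_self _ _)
      omega
    omega
  obtain ⟨e, he⟩ : ∃ e, φ e = 1 := by
    obtain ⟨y, hy⟩ : ∃ y, φ y ≠ 0 := by
      by_contra h; push Not at h; exact hφ0 (LinearMap.ext h)
    exact ⟨(φ y)⁻¹ • y, by simp [hy]⟩
  let l : (R₃ →ₗ[k] k) → V →ₗ[k] k := fun g => (T.left.compr₂ g).flip e
  have hl : ∀ (g : R₃ →ₗ[k] k) u r, g (T.left u r) = l g u * φ r := by
    intro g u r
    have hmem : r - φ r • e ∈ U := by
      rw [← hker, LinearMap.mem_ker, map_sub, map_smul, he, smul_eq_mul, mul_one, sub_self]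
    obtain ⟨v, hv⟩ := hmem
    have h0 : g (T.left u (T.mul κ v)) = 0 := by rw [T.assoc, hκ]; simp
    rw [hv, map_sub, map_sub, map_smul, map_smul, smul_eq_mul, sub_eq_zero] at h0
    simpa [l, mul_comm] using h0
  set β : V →ₗ[k] V →ₗ[k] k := T.mul.compr₂ φ with hβ
  have hψ : ∀ (g : R₃ →ₗ[k] k) u v w, g (T.right (T.mul u v) w) = l g u * β v w :=
    fun g u v w => by rw [← T.assoc, hl]; rfl
  have hlind : ∀ a b : k, (∀ u, a * l f u + b * l f' u = 0) → a = 0 ∧ b = 0 := fun a b h =>
    hff a b (T.span3 _ fun u r => by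
      rw [LinearMap.add_apply, LinearMap.smul_apply, LinearMap.smul_apply, hl, hl, smul_eq_mul,
        smul_eq_mul]
      linear_combination φ r * h u)
  have hne : ∃ v w, β v w ≠ 0 := by
    by_contra h
    push Not at h
    exact hφ0 (T.span2 φ h)
  obtain ⟨v₀, w₀, hvw⟩ := hne
  let Ψ : (R₃ →ₗ[k] k) → V → R₂ →ₗ[k] k := fun g w => g.comp (T.right.flip w)
  have hΨ : ∀ g w u v, Ψ g w (T.mul u v) = l g u * β v w := fun g w u v => hψ g u v w
  by_cases hrk : ∃ v w, β v w₀ = 0 ∧ β v w ≠ 0
  · obtain ⟨v, w, hv0, hvw'⟩ := hrk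
    have hind : LinearIndependent k ![Ψ f w₀, Ψ f' w₀, Ψ f w, Ψ f' w] := by
      rw [Fintype.linearIndependent_iff]
      intro c hcs
      simp only [Fin.sum_univ_four, Matrix.cons_val_zero, Matrix.cons_val_one,
        Matrix.cons_val] at hcs
      have h : ∀ u v, (c 0 * l f u + c 1 * l f' u) * β v w₀ +
          (c 2 * l f u + c 3 * l f' u) * β v w = 0 := fun u v => by
        have := LinearMap.congr_fun hcs (T.mul u v)
        simp only [LinearMap.add_apply, LinearMap.smul_apply, smul_eq_mul, hΨ,
          LinearMap.zero_apply] at this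
        linear_combination this
      have h23 := hlind (c 2) (c 3) fun u => by
        have := h u v
        rw [hv0, mul_zero, zero_add] at this
        exact (mul_eq_zero.1 this).resolve_right hvw'
      have h01 := hlind (c 0) (c 1) fun u => by
        have := h u v₀
        rw [h23.1, h23.2, zero_mul, zero_mul, add_zero, zero_mul, add_zero] at this
        exact (mul_eq_zero.1 this).resolve_right hvw
      intro i
      fin_cases i
      exacts [h01.1, h01.2, h23.1, h23.2]
    have := hind.fintype_card_le_finrank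
    rw [Fintype.card_fin, Subspace.dual_finrank_eq, h2] at this
    omega
  push Not at hrk
  set a : V →ₗ[k] k := β.flip w₀ with ha
  have haker : ∀ v, a v = 0 → ∀ w, β v w = 0 := fun v hv w => hrk v w hv
  have hav : a v₀ ≠ 0 := hvw
  have hfac : ∀ v w, β v w = a v * (β v₀ w / β v₀ w₀) := by
    intro v w
    have h := haker (v - (a v / a v₀) • v₀) (by
      rw [map_sub, map_smul, smul_eq_mul, div_mul_cancel₀ _ hav, sub_self]) w
    rw [map_sub, map_smul, LinearMap.sub_apply, LinearMap.smul_apply, smul_eq_mul,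
      sub_eq_zero] at h
    rw [h]
    simp only [ha, LinearMap.flip_apply]
    ring
  obtain ⟨p, q, hpq, hap, haq⟩ : ∃ p q, LinearIndependent k ![p, q] ∧ a p = 0 ∧ a q = 0 := by
    have h := LinearMap.finrank_range_add_finrank_ker a
    have h' : finrank k (LinearMap.range a) ≤ 1 :=
      (Submodule.finrank_le _).trans_eq (finrank_self k)
    obtain ⟨g, hg⟩ := exists_linearIndependent_of_le_finrank (R := k)
      (M := LinearMap.ker a) (n := 2) (by omega)
    have hg' := hg.map' (LinearMap.ker a).subtype (Submodule.ker_subtype _)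
    refine ⟨g 0, g 1, ?_, (g 0).2, (g 1).2⟩
    have e : (LinearMap.ker a).subtype ∘ g = ![(g 0 : V), (g 1 : V)] := by
      funext i
      fin_cases i <;> rfl
    rw [← e]
    exact hg'
  set C := T.mul p q - T.mul q p with hC
  have hC0 : C ≠ 0 := sub_ne_zero.2 (T.comm_ne_zero hV h2 hc hpq)
  have hind : LinearIndependent k ![φ, Ψ f w₀, Ψ f' w₀] := by
    rw [Fintype.linearIndependent_iff]
    intro c hcs
    simp only [Fin.sum_univ_three, Matrix.cons_val_zero, Matrix.cons_val_one, Matrix.cons_val]
      at hcs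
    have h : ∀ u v, c 0 * β u v + (c 1 * l f u + c 2 * l f' u) * a v = 0 := fun u v => by
      have := LinearMap.congr_fun hcs (T.mul u v)
      simp only [LinearMap.add_apply, LinearMap.smul_apply, smul_eq_mul, hΨ,
        LinearMap.zero_apply] at this
      simp only [ha, LinearMap.flip_apply, hβ, LinearMap.compr₂_apply] at this ⊢
      linear_combination this
    have h0 : c 0 = 0 := by
      by_contra h0
      refine hφ0 (hc φ fun u v => ?_)
      have hb : ∀ v, a v = 0 → ∀ u, β u v = 0 := fun v hv u => by
        have := h u v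
        rw [hv, mul_zero, add_zero] at this
        exact (mul_eq_zero.1 this).resolve_left h0
      have hsym : ∀ u v, β u v = β v u := by
        intro u v
        have e1 := hb (v - (a v / a v₀) • v₀) (by
          rw [map_sub, map_smul, smul_eq_mul, div_mul_cancel₀ _ hav, sub_self])
        have e1u := e1 u
        rw [map_sub, map_smul, smul_eq_mul, sub_eq_zero] at e1u
        have e2 := hb (u - (a u / a v₀) • v₀) (by
          rw [map_sub, map_smul, smul_eq_mul, div_mul_cancel₀ _ hav, sub_self]) v
        rw [map_sub, map_smul, smul_eq_mul, sub_eq_zero] at e2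
        rw [e1u, e2, hfac u v₀, hfac v v₀]
        ring
      exact hsym u v
    have h12 := hlind (c 1) (c 2) fun u => by
      have := h u v₀
      rw [h0, zero_mul, zero_add] at this
      exact (mul_eq_zero.1 this).resolve_right hvw
    intro i
    fin_cases i
    exacts [h0, h12.1, h12.2]
  have hkill : ∀ i, (![φ, Ψ f w₀, Ψ f' w₀] i) C = 0 := by
    intro i
    have hp : ∀ w, β p w = 0 := haker p hap
    have hq : ∀ w, β q w = 0 := haker q haq
    fin_cases i
    · show φ C = 0
      rw [hC, map_sub]
      show β p q - β q p = 0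
      rw [hp, hq, sub_zero]
    all_goals
      show Ψ _ w₀ C = 0
      rw [hC, map_sub, hΨ, hΨ, hp, hq, mul_zero, mul_zero, sub_zero]
  have hspan := hind.span_eq_top_of_card_eq_finrank (by
    rw [Fintype.card_fin, Subspace.dual_finrank_eq, h2])
  refine hC0 (dual_separates (k := k) fun g => ?_)
  have hg : g ∈ Submodule.span k (Set.range ![φ, Ψ f w₀, Ψ f' w₀]) := by rw [hspan]; trivial
  induction hg using Submodule.span_induction with
  | mem y hy => obtain ⟨i, rfl⟩ := hy; exact hkill i
  | zero => simp
  | add y z _ _ hy hz => simp [hy, hz]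
  | smul r y _ hy => simp [hy]

theorem flip_ann (hV : finrank k V = 3) (h2 : finrank k R₂ = 3) (hc : T.Comm2)
    {κ : V} (hκ0 : κ ≠ 0) (hκ : ∀ v, T.mul κ v = 0) : finrank k R₃ ≤ 1 :=
  T.flip.finrank_three_le_one_of_ann hV h2 (T.comm2_flip hc) hκ0 fun v => hκ v

/-- The pencil: a generator whose multiples lie on a line. -/
theorem exists_line [IsAlgClosed k] (hV : finrank k V = 3) (h2 : finrank k R₂ = 3) (hc : T.Comm2)
    (h3 : 2 ≤ finrank k R₃) :
    (∃ b e, b ≠ 0 ∧ ∀ u, T.mul u b ∈ Submodule.span k {e}) ∨
      ∃ a e, a ≠ 0 ∧ ∀ w, T.mul a w ∈ Submodule.span k {e} := by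
  classical
  obtain ⟨f, f', hff⟩ := exists_dual_pair (k := k) (M := R₃) h3
  let L : (R₃ →ₗ[k] k) → V →ₗ[k] R₂ →ₗ[k] k := fun g => T.left.compr₂ g
  obtain ⟨g, hg0, a, ha0, ha⟩ : ∃ g, g ≠ 0 ∧ ∃ a, a ≠ 0 ∧ L g a = 0 := by
    by_cases hinj : Function.Injective (L f')
    · let Le := LinearEquiv.ofBijective (L f') ⟨hinj,
        (LinearMap.injective_iff_surjective_of_finrank_eq_finrank
          (by rw [Subspace.dual_finrank_eq, h2, hV])).1 hinj⟩
      let N : Module.End k V := Le.symm.toLinearMap ∘ₗ L f
      have : Nontrivial V := Module.nontrivial_of_finrank_pos (R := k) (by omega)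
      obtain ⟨c, hc'⟩ := Module.End.exists_eigenvalue N
      obtain ⟨a, ha⟩ := hc'.exists_hasEigenvector
      refine ⟨f - c • f', fun e => ?_, a, ha.2, ?_⟩
      · have h := hff 1 (-c) (by linear_combination (norm := module) e)
        exact one_ne_zero h.1
      · have e : Le.symm (L f a) = c • a := ha.apply_eq_smul
        have e' := congrArg Le e
        rw [LinearEquiv.apply_symm_apply, map_smul] at e'
        have e'' : L f a = c • L f' a := e'
        refine LinearMap.ext fun r => ?_
        have := LinearMap.congr_fun e'' r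
        simp only [L, LinearMap.compr₂_apply, LinearMap.smul_apply, smul_eq_mul] at this
        simp [L, this]
    · rw [injective_iff_map_eq_zero] at hinj
      push Not at hinj
      obtain ⟨a, ha, ha0⟩ := hinj
      exact ⟨f', fun e => one_ne_zero (hff 0 1 (by simp [e])).2, a, ha0, ha⟩
  set Lg := L g with hLg
  set Mg : V →ₗ[k] R₂ →ₗ[k] k := T.right.flip.compr₂ g with hMg
  have hLM : ∀ u v w, Lg u (T.mul v w) = Mg w (T.mul u v) := fun u v w => by
    simp [hLg, L, hMg, T.assoc]
  have hMker : ∃ b, b ≠ 0 ∧ Mg b = 0 := by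
    by_contra h
    push Not at h
    have hinj : Function.Injective Mg := (injective_iff_map_eq_zero _).2 fun v hv =>
      by_contra fun hv0 => h v hv0 hv
    have hsur := (LinearMap.injective_iff_surjective_of_finrank_eq_finrank
          (by rw [Subspace.dual_finrank_eq, h2, hV])).1 hinj
    have hav : ∀ v, T.mul a v = 0 := fun v => dual_separates (k := k) fun ψ => by
      obtain ⟨w, rfl⟩ := hsur ψ
      rw [← hLM, ha, LinearMap.zero_apply]
    have := T.flip_ann hV h2 hc ha0 hav
    omega
  obtain ⟨b, hb0, hb⟩ := hMker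
  have hLn : ∃ u, Lg u ≠ 0 := by
    by_contra h
    push Not at h
    exact hg0 (T.span3 g fun u r => LinearMap.congr_fun (h u) r)
  -- a line from a plane of functionals
  have line : ∀ {m : V → R₂} {φ ψ : R₂ →ₗ[k] k}, LinearIndependent k ![φ, ψ] →
      (∀ v, φ (m v) = 0 ∧ ψ (m v) = 0) → ∃ e, ∀ v, m v ∈ Submodule.span k {e} := by
    intro m φ ψ hind hm
    set K := LinearMap.ker φ ⊓ LinearMap.ker ψ with hK
    have hK1 : finrank k K ≤ 1 := by
      have hrange : K = (Submodule.span k (Set.range ![φ, ψ])).dualCoannihilator := by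
        ext y
        rw [Submodule.mem_dualCoannihilator, hK, Submodule.mem_inf, LinearMap.mem_ker,
          LinearMap.mem_ker]
        constructor
        · rintro ⟨h1, h2⟩ χ hχ
          induction hχ using Submodule.span_induction with
          | mem z hz => obtain ⟨i, rfl⟩ := hz; fin_cases i <;> assumption
          | zero => simp
          | add z z' _ _ hz hz' => simp [hz, hz']
          | smul r z _ hz => simp [hz]
        · intro h
          exact ⟨h φ (Submodule.subset_span ⟨0, rfl⟩), h ψ (Submodule.subset_span ⟨1, rfl⟩)⟩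
      have h := Subspace.finrank_add_finrank_dualCoannihilator_eq
        (Submodule.span k (Set.range ![φ, ψ]))
      rw [finrank_span_eq_card hind, Fintype.card_fin, h2, ← hrange] at h
      omega
    obtain ⟨e, he⟩ : ∃ e, K ≤ Submodule.span k {e} := by
      rcases eq_or_ne K ⊥ with h | h
      · exact ⟨0, by simp [h]⟩
      · obtain ⟨e, heK, he0⟩ := (Submodule.ne_bot_iff _).1 h
        refine ⟨e, (Submodule.eq_of_le_of_finrank_le
          ((Submodule.span_singleton_le_iff_mem _ _).2 heK) ?_).ge⟩
        rw [finrank_span_singleton he0]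
        exact hK1
    exact ⟨e, fun v => he ⟨(hm v).1, (hm v).2⟩⟩
  by_cases hL2 : ∃ u u', LinearIndependent k ![Lg u, Lg u']
  · obtain ⟨u, u', hu⟩ := hL2
    obtain ⟨e, he⟩ := line hu (m := fun v => T.mul v b) fun v =>
      ⟨by rw [hLM, hb, LinearMap.zero_apply], by rw [hLM, hb, LinearMap.zero_apply]⟩
    exact Or.inl ⟨b, e, hb0, he⟩
  by_cases hM2 : ∃ u u', LinearIndependent k ![Mg u, Mg u']
  · obtain ⟨u, u', hu⟩ := hM2
    obtain ⟨e, he⟩ := line hu (m := fun v => T.mul a v) fun v =>
      ⟨by rw [← hLM, ha, LinearMap.zero_apply], by rw [← hLM, ha, LinearMap.zero_apply]⟩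
    exact Or.inr ⟨a, e, ha0, he⟩
  -- both of rank one
  push Not at hL2 hM2
  obtain ⟨u₀, hu₀⟩ := hLn
  set φ := Lg u₀ with hφ
  have hdep : ∀ {N : V →ₗ[k] R₂ →ₗ[k] k} {u₁ : V}, N u₁ ≠ 0 →
      (∀ u u', ¬ LinearIndependent k ![N u, N u']) → ∀ u, ∃ c : k, N u = c • N u₁ := by
    intro N u₁ h1 h u
    have h' := h u₁ u
    rw [LinearIndependent.pair_iff] at h'
    push Not at h'
    obtain ⟨s, t, hst, hne⟩ := h'
    rcases eq_or_ne t 0 with ht | ht
    · rw [ht, zero_smul, add_zero, smul_eq_zero] at hst
      exact absurd ht (hne (hst.resolve_right h1))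
    · refine ⟨-(t⁻¹ * s), ?_⟩
      have e : t⁻¹ • (t • N u + s • N u₁) = 0 := by rw [add_comm, hst, smul_zero]
      rw [smul_add, inv_smul_smul₀ ht, smul_smul] at e
      linear_combination (norm := module) e
  obtain ⟨w₁, hw₁⟩ : ∃ w, Mg w ≠ 0 := by
    by_contra h
    push Not at h
    exact hg0 (T.right_span g fun r w => LinearMap.congr_fun (h w) r)
  set ψ := Mg w₁ with hψ
  choose cl hcl using hdep hu₀ hL2
  choose cn hcn using hdep hw₁ hM2
  have key : ∀ u v w, cl u * φ (T.mul v w) = cn w * ψ (T.mul u v) := fun u v w => by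
    have h := hLM u v w
    rw [hcl u, hcn w] at h
    simpa using h
  have hcl0 : cl u₀ = 1 := smul_left_injective k hu₀ (show cl u₀ • φ = (1 : k) • φ by
    rw [one_smul, ← hcl])
  have hcn0 : cn w₁ = 1 := smul_left_injective k hw₁ (show cn w₁ • ψ = (1 : k) • ψ by
    rw [one_smul, ← hcn])
  set mm : V →ₗ[k] k := (T.mul.compr₂ ψ) u₀ with hmm
  have hφm : ∀ v w, φ (T.mul v w) = cn w * mm v := fun v w => by
    have h := key u₀ v w
    rwa [hcl0, one_mul] at h
  have hψm : ∀ u v, ψ (T.mul u v) = cl u * mm v := fun u v => by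
    have h := key u v w₁
    rw [hcn0, one_mul] at h
    rw [← h, hφm, hcn0, one_mul]
  obtain ⟨v₁, hv₁⟩ : ∃ v, mm v ≠ 0 := by
    by_contra h
    push Not at h
    exact hu₀ (T.span2 φ fun v w => by rw [hφm, h, mul_zero])
  have hind : LinearIndependent k ![φ, ψ] := by
    rw [LinearIndependent.pair_iff]
    intro s t hst
    have h : ∀ v w, s * (cn w * mm v) + t * (cl v * mm w) = 0 := fun v w => by
      have := LinearMap.congr_fun hst (T.mul v w)
      rw [LinearMap.add_apply, LinearMap.smul_apply, LinearMap.smul_apply, hφm, hψm] at this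
      exact this
    by_cases hs : s = 0
    · subst hs
      rw [zero_smul, zero_add, smul_eq_zero] at hst
      exact ⟨rfl, hst.resolve_right hw₁⟩
    · exfalso
      set α := -(t * mm w₁) / s with hα
      have h3 : ∀ v, mm v = α * cl v := fun v => by
        have := h v w₁
        rw [hcn0, one_mul] at this
        rw [hα]
        field_simp
        linear_combination this
      have hα0 : α ≠ 0 := fun hz => hv₁ (by rw [h3, hz, zero_mul])
      have h6 : ∀ w, s * cn w = -(t * cl w) := fun w => by
        have h4 := h u₀ w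
        rw [h3 u₀, h3 w, hcl0, mul_one, one_mul] at h4
        have h5 : α * (s * cn w + t * cl w) = 0 := by linear_combination h4
        exact eq_neg_of_add_eq_zero_left ((mul_eq_zero.1 h5).resolve_left hα0)
      refine hu₀ (hc φ fun v w => mul_left_cancel₀ hs ?_)
      rw [hφm, hφm, h3 v, h3 w]
      linear_combination (α * cl v) * h6 w - (α * cl w) * h6 v
  obtain ⟨b', hb'0, hb'⟩ := exists_ker (LinearMap.prod mm ((T.mul.compr₂ φ) v₁))
    (by rw [Module.finrank_prod, finrank_self, hV]; omega)
  replace hb' : mm b' = 0 ∧ (T.mul.compr₂ φ) v₁ b' = 0 := Prod.ext_iff.1 hb'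
  have hn : cn b' = 0 := by
    have h := hφm v₁ b'
    rw [show φ (T.mul v₁ b') = 0 from hb'.2] at h
    exact (mul_eq_zero.1 h.symm).resolve_right hv₁
  obtain ⟨e, he⟩ := line hind (m := fun v => T.mul v b') fun v =>
    ⟨by rw [hφm, hn, zero_mul], by rw [hψm, hb'.1, mul_zero]⟩
  exact Or.inl ⟨b', e, hb'0, he⟩

end Triple

end CfsgLib.BlockA.LocalFive
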