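import Cfsg.Agent.Lib.BlockA.LocalFive.Graded

/-!
Commutators in degrees two and three, and central elements killing a power of the augmentation
ideal.
-/

set_option autoImplicit false
set_option linter.unusedSectionVars false

namespace CfsgLib.BlockA.LocalFive

open Module Submodule LocalCentre

variable {k A : Type*} [Field k] [Ring A] [Algebra k A] [FiniteDimensional k A] (ε : A →ₐ[k] k)

/-- Commutators of degree one with degree two. -/
def commTwo : Submodule k A :=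
  span k {z | ∃ a ∈ aug ε, ∃ b ∈ aug ε ^ 2, z = a * b - b * a}

theorem commTwo_le : commTwo ε ≤ aug ε ^ 3 := by
  refine span_le.2 ?_
  rintro _ ⟨a, ha, b, hb, rfl⟩
  exact sub_mem (mem_pow_mul ε (i := 1) (by omega) ((mem_aug_pow_one ε).2 ha) hb)
    (mem_pow_mul ε (j := 1) (by omega) hb ((mem_aug_pow_one ε).2 ha))

theorem exists_gens {n : ℕ} (h : finrank k (Piece ε 1) = n) :
    ∃ g : Fin n → A, (∀ i, g i ∈ aug ε) ∧ aug ε ≤ span k (Set.range g) ⊔ aug ε ^ 2 := by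
  let b := Module.finBasisOfFinrankEq k (Piece ε 1) h
  choose g hg using fun i => mkP_surjective ε 1 (b i)
  refine ⟨fun i => (g i).1, fun i => (mem_aug_pow_one ε).1 (g i).2, ?_⟩
  have := le_span_of_piece ε (n := 1) (Set.range g) (by
    rw [← Set.range_comp, show mkP ε 1 ∘ g = b from funext hg, b.span_eq])
  rw [← Set.range_comp] at this
  exact fun x hx => this ((mem_aug_pow_one ε).2 hx)

theorem comms_le_span {p q r : A} (hp : p ∈ aug ε) (hq : q ∈ aug ε) (hr : r ∈ aug ε)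
    (hgen : aug ε ≤ span k {p, q, r} ⊔ aug ε ^ 2) :
    comms k A ≤ span k {p * q - q * p, p * r - r * p, q * r - r * q} ⊔ commTwo ε := by
  rw [comms, span_le]
  rintro _ ⟨⟨a, b⟩, rfl⟩
  show a * b - b * a ∈ _
  rw [comm_eq_comm_aug ε a b]
  have hdec : ∀ {x}, x ∈ aug ε → ∃ α β γ : k, ∃ x' ∈ aug ε ^ 2,
      x = α • p + β • q + γ • r + x' := by
    intro x hx
    obtain ⟨y, hy, x', hx', rfl⟩ := mem_sup.1 (hgen hx)
    obtain ⟨α, z, hz, rfl⟩ := mem_span_insert.1 hy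
    obtain ⟨β, γ, rfl⟩ := mem_span_pair.1 hz
    exact ⟨α, β, γ, x', hx', by rw [← add_assoc (α • p)]⟩
  obtain ⟨α, β, γ, x', hx', ex⟩ := hdec (sub_mem_aug ε a)
  obtain ⟨α', β', γ', y', hy', ey⟩ := hdec (sub_mem_aug ε b)
  set X := α • p + β • q + γ • r with hX
  set Y := α' • p + β' • q + γ' • r with hY
  have hYJ : Y + y' ∈ aug ε := ey ▸ sub_mem_aug ε b
  have hXJ : X ∈ aug ε := add_mem (add_mem (smul_mem _ _ hp) (smul_mem _ _ hq)) (smul_mem _ _ hr)
  rw [ex, ey, show (X + x') * (Y + y') - (Y + y') * (X + x') =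
    (X * Y - Y * X) + ((X * y' - y' * X) - ((Y + y') * x' - x' * (Y + y'))) by
      simp only [mul_add, add_mul]; abel]
  refine add_mem_sup ?_ (sub_mem (subset_span ⟨X, hXJ, y', hy', rfl⟩)
    (subset_span ⟨Y + y', hYJ, x', hx', rfl⟩))
  have e : X * Y - Y * X = (α * β' - β * α') • (p * q - q * p) +
      (α * γ' - γ * α') • (p * r - r * p) + (β * γ' - γ * β') • (q * r - r * q) := by
    simp only [hX, hY, mul_add, add_mul, smul_mul_assoc, mul_smul_comm, smul_smul, smul_sub,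
      sub_smul]
    module
  rw [e]
  exact add_mem (add_mem (smul_mem _ _ (subset_span (by simp)))
    (smul_mem _ _ (subset_span (by simp)))) (smul_mem _ _ (subset_span (by simp)))

/-- Degree two consists of commutators. -/
theorem triple_comm2 (h : aug ε ^ 2 ≤ comms k A ⊔ aug ε ^ 3) : (triple ε).Comm2 := by
  intro f hf
  have hW : comms k A ≤ (LinearMap.ker (f ∘ₗ mkP ε 2)).map (aug ε ^ 2).subtype := by
    rw [comms, span_le]
    rintro _ ⟨⟨a, b⟩, rfl⟩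
    show a * b - b * a ∈ _
    rw [comm_eq_comm_aug ε a b]
    have ha := (mem_aug_pow_one ε).2 (sub_mem_aug ε a)
    have hb := (mem_aug_pow_one ε).2 (sub_mem_aug ε b)
    refine ⟨⟨_, mem_pow_mul ε (i := 1) (j := 1) rfl ha hb⟩ -
      ⟨_, mem_pow_mul ε (i := 1) (j := 1) rfl hb ha⟩, LinearMap.mem_ker.2 ?_, rfl⟩
    rw [map_sub, sub_eq_zero]
    exact hf (mkP ε 1 ⟨_, ha⟩) (mkP ε 1 ⟨_, hb⟩)
  refine LinearMap.ext fun q => ?_
  obtain ⟨⟨x, hx⟩, rfl⟩ := mkP_surjective ε 2 q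
  obtain ⟨w, hw, s, hs, e⟩ := mem_sup.1 (h hx)
  obtain ⟨w', hw', rfl⟩ := hW hw
  rw [LinearMap.zero_apply, ← show f (mkP ε 2 w') = 0 from hw']
  refine congrArg f ((mkP_eq ε).2 ?_)
  show x - (w' : A) ∈ _
  rw [← e, Submodule.subtype_apply, add_sub_cancel_left]
  exact hs

/-- Degree three consists of commutators with degree two. -/
theorem triple_comm3 {C : Submodule k A} (hC : ∀ x ∈ C, x ∈ aug ε ^ 3 → x = 0)
    (hW : comms k A ≤ C ⊔ commTwo ε) (h : aug ε ^ 3 ≤ comms k A ⊔ aug ε ^ 4) :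
    (triple ε).Comm3 := by
  intro f hf
  have hW2 : commTwo ε ≤ (LinearMap.ker (f ∘ₗ mkP ε 3)).map (aug ε ^ 3).subtype := by
    refine span_le.2 ?_
    rintro _ ⟨a, ha, b, hb, rfl⟩
    have ha := (mem_aug_pow_one ε).2 ha
    refine ⟨⟨_, mem_pow_mul ε (i := 1) (j := 2) rfl ha hb⟩ -
      ⟨_, mem_pow_mul ε (i := 2) (j := 1) rfl hb ha⟩, LinearMap.mem_ker.2 ?_, rfl⟩
    rw [map_sub, sub_eq_zero]
    exact hf (mkP ε 1 ⟨_, ha⟩) (mkP ε 2 ⟨_, hb⟩)
  refine LinearMap.ext fun q => ?_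
  obtain ⟨⟨x, hx⟩, rfl⟩ := mkP_surjective ε 3 q
  obtain ⟨w, hw, s, hs, e⟩ := mem_sup.1 (h hx)
  have hw3 : w ∈ aug ε ^ 3 := by
    rw [show w = x - s by rw [← e, add_sub_cancel_right]]
    exact sub_mem hx (LocalCentre.pow_le_pow ε (by omega) (by omega) hs)
  obtain ⟨c, hc, d, hd, e'⟩ := mem_sup.1 (hW hw)
  have hc0 : c = 0 := hC c hc (by
    rw [show c = w - d by rw [← e', add_sub_cancel_right]]
    exact sub_mem hw3 (commTwo_le ε hd))
  obtain ⟨d', hd', rfl⟩ := hW2 hd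
  rw [hc0, zero_add] at e'
  rw [LinearMap.zero_apply, ← show f (mkP ε 3 d') = 0 from hd']
  refine congrArg f ((mkP_eq ε).2 ?_)
  show x - (d' : A) ∈ _
  rw [← e, ← e', Submodule.subtype_apply, add_sub_cancel_left]
  exact hs

variable (hnil : ∀ x, ε x = 0 → IsNilpotent x) (t : A →ₗ[k] k)
  (hsymm : ∀ x y, t (x * y) = t (y * x)) (hnd : ∀ x, (∀ y, t (x * y) = 0) → x = 0)
include hnil hsymm hnd

theorem central_mul_eq_zero {l m : ℕ} (hl : aug ε ^ (l + 1) ≤ comms k A ⊔ aug ε ^ m)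
    (hm : aug ε ^ (m + 1) = ⊥) {z : A} (hz : z ∈ aug ε) (hzc : ∀ y, z * y = y * z) {x : A}
    (hx : x ∈ aug ε ^ (l + 1)) : z * x = 0 := by
  refine eq_zero_of_right_ideal ε hnil t hsymm hnd
    (I := (aug ε ^ (l + 1)).map (LinearMap.mulLeft k z)) ?_ ?_ (Submodule.mem_map_of_mem hx)
  · rintro _ ⟨a, ha, rfl⟩ y
    exact ⟨a * y, pow_mul_mem ε hnil t hsymm hnd ha y, (mul_assoc z a y).symm⟩
  · rintro _ ⟨a, ha, rfl⟩
    obtain ⟨w, hw, s, hs, rfl⟩ := mem_sup.1 (hl ha)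
    have hzs : z * s = 0 := by
      have := mem_pow_mul ε (i := 1) (l := m + 1) (by omega) ((mem_aug_pow_one ε).2 hz) hs
      rwa [hm, mem_bot] at this
    rw [LinearMap.mulLeft_apply, mul_add, hzs, add_zero]
    exact mul_mem_comms hzc hw

theorem two_le_piece {l m : ℕ} (hl : aug ε ^ (l + 1) ≤ comms k A ⊔ aug ε ^ m)
    (hm : aug ε ^ (m + 1) = ⊥) {n : ℕ} (hn : aug ε ^ (n + 1 + (l + 1)) ≠ ⊥) :
    2 ≤ finrank k (Piece ε (n + 2)) := by
  by_contra hlt
  have hn2 : aug ε ^ (n + 2) ≠ ⊥ := fun h => hn (le_bot_iff.1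
    ((LocalCentre.pow_le_pow ε (by omega) (by omega)).trans h.le))
  refine hn (le_bot_iff.1 ?_)
  rw [pow_add, Submodule.mul_le]
  intro z hz x hx
  rw [mem_bot]
  exact central_mul_eq_zero ε hnil t hsymm hnd hl hm
    ((mem_aug_pow_one ε).1 (LocalCentre.pow_le_pow ε le_rfl (by omega) hz))
    (fun y => central_of_line ε hnil t hsymm hnd (n := n + 1) hn2 (show finrank k (Piece ε (n + 2)) ≤ 1 by omega) hz y) hx

end CfsgLib.BlockA.LocalFive
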