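import Cfsg.Agent.Lib.BlockA.LocalFive.Twist

/-!
Degree three of an algebra with three generators and three commutators in degree two is at most
two-dimensional, and some multiplication by a degree-one element is onto degree two.
-/

set_option autoImplicit false
set_option linter.unusedSectionVars false

namespace CfsgLib.BlockA.LocalFive

open Module

variable {k V R₂ R₃ : Type*} [Field k] [AddCommGroup V] [Module k V] [AddCommGroup R₂]
  [Module k R₂] [AddCommGroup R₃] [Module k R₃] [FiniteDimensional k V] [FiniteDimensional k R₂]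
  [FiniteDimensional k R₃]

namespace Triple

variable (T : Triple k V R₂ R₃)

/-- A line `V b` and an element `x` acting bijectively leave at most two dimensions in degree
three. -/
theorem le_two_of_line (hV : finrank k V = 3) (h2 : finrank k R₂ = 3) (hc : T.Comm2)
    (hc3 : T.Comm3) {x b : V} (hx : Function.Surjective (T.mul x)) (hb : b ≠ 0) {e : R₂}
    (he : ∀ u, T.mul u b ∈ Submodule.span k {e}) : finrank k R₃ ≤ 2 := by
  by_contra h3
  obtain ⟨S, rfl⟩ := T.exists_twist (hV.trans h2.symm) (by omega) hx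
  have hinj : Function.Injective (T.mul S.x) := fun u v h => S.e.injective (by
    rw [S.e_apply, S.e_apply, h])
  have hφ : ∀ u, ∃ c : k, S.φ u b = c • b := fun u => by
    obtain ⟨c, hcx⟩ := Submodule.mem_span_singleton.1 (he S.x)
    obtain ⟨d, hd⟩ := Submodule.mem_span_singleton.1 (he u)
    have hc0 : c ≠ 0 := fun h => hb (hinj (by rw [← hcx, h, zero_smul, map_zero]))
    refine ⟨d * c⁻¹, hinj ?_⟩
    rw [← S.mul_eq, map_smul, ← hcx, ← hd, smul_smul, mul_assoc, inv_mul_cancel₀ hc0, mul_one]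
  obtain ⟨g, hg⟩ : ∃ g : V →ₗ[k] k, g b = 1 := by
    obtain ⟨f, hf⟩ : ∃ f : V →ₗ[k] k, f b ≠ 0 := by
      by_contra h
      push Not at h
      exact hb (dual_separates h)
    exact ⟨(f b)⁻¹ • f, by rw [LinearMap.smul_apply, smul_eq_mul, inv_mul_cancel₀ hf]⟩
  set l : V →ₗ[k] k := g ∘ₗ S.φ.flip b
  have hlb : ∀ u, S.φ u b = l u • b := fun u => by
    obtain ⟨c, hc⟩ := hφ u
    simp [l, hc, hg]
  have hl1 : l S.x = 1 := by simp [l, S.φ_x, hg]
  have hl : ∀ u v, l (S.φ u v) = l (S.σ u) * l v := fun u v => by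
    have e1 : S.φ (S.φ u v) b = (l (S.σ u) * l v) • b := by
      rw [S.hom, hlb, map_smul, hlb, smul_smul, mul_comm]
    simpa [hg] using congrArg g ((hlb (S.φ u v)).symm.trans e1)
  refine S.false_of_three l hl1 hl (fun a ha => by_contra fun ha0 => ?_) hc hc3 hV
  have := T.flip_ann hV h2 hc ha0 ha
  omega

variable [IsAlgClosed k]

/-- If no left multiplication is onto, a right multiplication is, and some `s V` is a line. -/
theorem exists_left_line (hV : finrank k V = 3) (h2 : finrank k R₂ = 3) (hc : T.Comm2)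
    (h3 : 2 ≤ finrank k R₃) (hsing : ∀ x, ¬ Function.Surjective (T.mul x)) {b : V} (hb : b ≠ 0)
    {e : R₂} (he : ∀ u, T.mul u b ∈ Submodule.span k {e}) :
    ∃ s y, s ≠ 0 ∧ (∀ w, T.mul s w ∈ Submodule.span k {e}) ∧
      Function.Surjective (T.flip.mul y) := by
  classical
  obtain ⟨x₀, hx₀⟩ : ∃ x, T.mul x b ≠ 0 := by
    by_contra h
    push Not at h
    have := T.finrank_three_le_one_of_ann hV h2 hc hb h
    omega
  set L : Submodule k R₂ := Submodule.span k {e} with hL
  have he0 : e ≠ 0 := fun h => hx₀ (by simpa [hL, h] using he x₀)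
  let S : Set V := {x | T.mul x b ≠ 0}
  set m : V →ₗ[k] V →ₗ[k] R₂ ⧸ L := T.mul.compr₂ L.mkQ
  have hmQ : ∀ x w, m x w = L.mkQ (T.mul x w) := fun _ _ => rfl
  have hquot : finrank k (R₂ ⧸ L) = 2 := by
    have := L.finrank_quotient_add_finrank
    rw [h2, show finrank k L = 1 from finrank_span_singleton he0] at this
    omega
  have hle : ∀ x ∈ S, L ≤ LinearMap.range (T.mul x) := fun x (hx : T.mul x b ≠ 0) => by
    obtain ⟨c, hc⟩ := Submodule.mem_span_singleton.1 (he x)
    have hc0 : c ≠ 0 := fun h => hx (by rw [← hc, h, zero_smul])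
    rw [hL, Submodule.span_singleton_le_iff_mem]
    exact ⟨c⁻¹ • b, by rw [map_smul, ← hc, inv_smul_smul₀ hc0]⟩
  have hS : ∀ x ∈ S, ∃ r, ∀ w, m x w ∈ Submodule.span k {r} := by
    intro x hx
    have h1 : finrank k (LinearMap.range (m x)) ≤ 1 := by
      have hlt : finrank k (LinearMap.range (T.mul x)) < 3 := by
        rw [← h2]
        exact Submodule.finrank_lt (fun h => hsing x (LinearMap.range_eq_top.1 h))
      have hr : LinearMap.range (m x) = (LinearMap.range (T.mul x)).map L.mkQ :=
        LinearMap.range_comp (T.mul x) L.mkQ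
      have h := LinearMap.finrank_range_add_finrank_ker
        (L.mkQ.domRestrict (LinearMap.range (T.mul x)))
      rw [LinearMap.range_domRestrict, ← hr, LinearMap.ker_domRestrict] at h
      have hk : 1 ≤ finrank k (Submodule.comap (LinearMap.range (T.mul x)).subtype
          (LinearMap.ker L.mkQ)) := by
        rw [Submodule.ker_mkQ, (Submodule.comapSubtypeEquivOfLe (hle x hx)).finrank_eq, hL,
          finrank_span_singleton he0]
      omega
    obtain ⟨r, hr⟩ := finrank_le_one_iff.1 h1
    exact ⟨r, fun w => by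
      obtain ⟨c, hc⟩ := hr ⟨m x w, ⟨w, rfl⟩⟩
      exact Submodule.mem_span_singleton.2 ⟨c, congrArg Subtype.val hc⟩⟩
  have hmix : ∀ x ∈ S, ∀ y ∈ S, ∃ c : k, c ≠ 0 ∧ x + c • y ∈ S := by
    intro x hx y hy
    obtain ⟨a, ha⟩ := Submodule.mem_span_singleton.1 (he x)
    obtain ⟨a', ha'⟩ := Submodule.mem_span_singleton.1 (he y)
    have ha'0 : a' ≠ 0 := fun h => hy (by rw [← ha', h, zero_smul])
    obtain ⟨c, hc⟩ := Infinite.exists_notMem_finset ({0, -a / a'} : Finset k)
    simp only [Finset.mem_insert, Finset.mem_singleton, not_or] at hc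
    refine ⟨c, hc.1, fun h => hc.2 ?_⟩
    rw [map_add, map_smul, LinearMap.add_apply, LinearMap.smul_apply, ← ha, ← ha', smul_smul,
      ← add_smul, smul_eq_zero, or_iff_left he0] at h
    field_simp
    linear_combination h
  have hdiff : ∀ u, ∃ p ∈ S, ∃ q ∈ S, u = p - q ∨ u = p := fun u => by
    by_cases hu : T.mul u b = 0
    · exact ⟨u + x₀, by simpa [S, hu] using hx₀, x₀, hx₀, Or.inl (by abel)⟩
    · exact ⟨u, hu, u, hu, Or.inr rfl⟩
  have hext : ∀ {v} (M : Submodule k (R₂ ⧸ L)), (∀ p ∈ S, m p v ∈ M) → ∀ u, m u v ∈ M := by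
    intro v M h u
    obtain ⟨p, hp, q, hq, rfl | rfl⟩ := hdiff u
    · rw [map_sub, LinearMap.sub_apply]
      exact M.sub_mem (h p hp) (h q hq)
    · exact h _ hp
  have hline : ∀ r, ∃ x ∈ S, ∃ w, m x w ∉ Submodule.span k {r} := by
    intro r
    by_contra h
    push Not at h
    have hlt : Submodule.span k {r} < ⊤ := lt_top_iff_ne_top.2 fun ht => by
      have h1 := finrank_span_le_card (R := k) ({r} : Set (R₂ ⧸ L))
      rw [Set.toFinset_singleton, Finset.card_singleton, ht, finrank_top, hquot] at h1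
      omega
    obtain ⟨f, hf0, hf⟩ := Submodule.exists_dual_map_eq_bot_of_lt_top hlt inferInstance
    have hz : f ∘ₗ L.mkQ = 0 := T.span2 _ fun u w => by
      have h' := Submodule.mem_map_of_mem (f := f) (hext _ (fun p hp => h p hp w) u)
      rwa [hf, Submodule.mem_bot] at h'
    refine hf0 (LinearMap.ext fun q => ?_)
    obtain ⟨q, rfl⟩ := L.mkQ_surjective q
    exact LinearMap.congr_fun hz q
  obtain ⟨x, hx, w, hw⟩ := hline 0
  have hne : ∃ w, m x w ≠ 0 := ⟨w, fun h => hw (by rw [h]; exact zero_mem _)⟩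
  set K := LinearMap.ker (m x) with hK
  have hKmul : ∀ u, ∀ p ∈ K, T.mul u p ∈ L := fun u p hp => by
    have := hext (v := p) ⊥ (fun q hq => (Submodule.mem_bot k).2
      (ker_common m S hS hmix hline hx (LinearMap.mem_ker.1 hp) hne hq)) u
    simpa [hmQ, Submodule.Quotient.mk_eq_zero] using this
  obtain ⟨z, hz⟩ : ∃ z, z ∉ K := ⟨hne.choose, fun h => hne.choose_spec (LinearMap.mem_ker.1 h)⟩
  have htop : K ⊔ Submodule.span k {z} = ⊤ := by
    refine Submodule.eq_top_of_finrank_eq (le_antisymm (Submodule.finrank_le _) ?_)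
    have hK2 : 2 ≤ finrank k K := by
      obtain ⟨r, hr⟩ := hS x hx
      have hsub : LinearMap.range (m x) ≤ Submodule.span k {r} := by
        rintro _ ⟨w, rfl⟩
        exact hr w
      have h1 : finrank k (LinearMap.range (m x)) ≤ 1 := by
        refine (Submodule.finrank_mono hsub).trans ?_
        rcases eq_or_ne r 0 with rfl | hr0
        · rw [Submodule.span_zero_singleton, finrank_bot]
          exact zero_le_one
        · exact (finrank_span_singleton hr0).le
      have h := LinearMap.finrank_range_add_finrank_ker (m x)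
      rw [hK]
      omega
    have hlt : K < K ⊔ Submodule.span k {z} :=
      lt_of_le_of_ne le_sup_left fun h => hz (h ▸ Submodule.mem_sup_right
        (Submodule.mem_span_singleton_self z))
    have := Submodule.finrank_lt_finrank_of_lt hlt
    omega
  have hdec : ∀ w, ∃ p ∈ K, ∃ c : k, w = p + c • z := fun w => by
    obtain ⟨p, hp, q, hq, rfl⟩ := Submodule.mem_sup.1 (htop ▸ Submodule.mem_top : w ∈ K ⊔ _)
    obtain ⟨c, rfl⟩ := Submodule.mem_span_singleton.1 hq
    exact ⟨p, hp, c, rfl⟩
  obtain ⟨s, hs0, hs⟩ := exists_ker (m.flip z) (by rw [hquot, hV]; norm_num)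
  have hsz : T.mul s z ∈ L := by
    simpa [hmQ, Submodule.Quotient.mk_eq_zero] using hs
  have hsline : ∀ w, T.mul s w ∈ L := fun w => by
    obtain ⟨p, hp, c, rfl⟩ := hdec w
    rw [map_add, map_smul]
    exact L.add_mem (hKmul s p hp) (L.smul_mem c hsz)
  -- a right multiplication is onto as soon as its image meets `L` and `z` is involved
  have hsurj : ∀ p ∈ K, T.mul s (z + p) ≠ 0 → Function.Surjective (T.flip.mul (z + p)) := by
    intro p hp hne'
    have hLy : L ≤ LinearMap.range (T.flip.mul (z + p)) := by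
      obtain ⟨c, hc⟩ := Submodule.mem_span_singleton.1 (hsline (z + p))
      have hc0 : c ≠ 0 := fun h => hne' (by rw [← hc, h, zero_smul])
      rw [hL, Submodule.span_singleton_le_iff_mem]
      exact ⟨c⁻¹ • s, by rw [flip_mul, map_smul, LinearMap.smul_apply, ← hc, inv_smul_smul₀ hc0]⟩
    rw [← LinearMap.range_eq_top]
    by_contra htop'
    obtain ⟨f, hf0, hf⟩ := Submodule.exists_dual_map_eq_bot_of_lt_top
      (lt_top_iff_ne_top.2 htop') inferInstance
    refine hf0 (T.span2 f fun u w => ?_)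
    have hmem : T.mul u w ∈ LinearMap.range (T.flip.mul (z + p)) := by
      obtain ⟨q, hq, c, rfl⟩ := hdec w
      have : T.mul u (q + c • z) = T.mul u q + c • (T.flip.mul (z + p) u - T.mul u p) := by
        rw [flip_mul, map_add, map_smul, map_add, add_sub_cancel_right]
      rw [this]
      exact Submodule.add_mem _ (hLy (hKmul u q hq)) (Submodule.smul_mem _ _
        (Submodule.sub_mem _ ⟨u, rfl⟩ (hLy (hKmul u p hp))))
    have h' := Submodule.mem_map_of_mem (f := f) hmem
    rwa [hf, Submodule.mem_bot] at h'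
  by_cases hy : ∃ y, Function.Surjective (T.flip.mul y)
  · obtain ⟨y, hy⟩ := hy
    exact ⟨s, y, hs0, hsline, hy⟩
  push Not at hy
  have hz0 : T.mul s z = 0 := by
    by_contra h
    exact hy (z + 0) (hsurj 0 K.zero_mem (by rwa [add_zero]))
  have hann : ∀ w, T.mul s w = 0 := fun w => by
    obtain ⟨p, hp, c, rfl⟩ := hdec w
    have hp0 : T.mul s p = 0 := by
      by_contra h
      exact hy (z + p) (hsurj p hp (by rwa [map_add, hz0, zero_add]))
    rw [map_add, map_smul, hp0, hz0, smul_zero, add_zero]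
  have := T.flip_ann hV h2 hc hs0 hann
  omega

/-- **Three generators, three commutators.** -/
theorem exists_surjective_le_two (hV : finrank k V = 3) (h2 : finrank k R₂ = 3) (hc : T.Comm2)
    (hc3 : T.Comm3) (h3 : 2 ≤ finrank k R₃) :
    finrank k R₃ ≤ 2 ∧
      ∃ x, Function.Surjective (T.mul x) ∨ Function.Surjective (T.flip.mul x) := by
  have step : ∀ U : Triple k V R₂ R₃, U.Comm2 → U.Comm3 → ∀ b e, b ≠ 0 →
      (∀ u, U.mul u b ∈ Submodule.span k {e}) → finrank k R₃ ≤ 2 ∧
      ∃ x, Function.Surjective (U.mul x) ∨ Function.Surjective (U.flip.mul x) := by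
    intro U hU hU3 b e hb he
    by_cases hx : ∃ x, Function.Surjective (U.mul x)
    · obtain ⟨x, hx⟩ := hx
      exact ⟨U.le_two_of_line hV h2 hU hU3 hx hb he, x, Or.inl hx⟩
    push Not at hx
    obtain ⟨s, y, hs0, hs, hy⟩ := U.exists_left_line hV h2 hU h3 hx hb he
    exact ⟨U.flip.le_two_of_line hV h2 (U.comm2_flip hU) (U.comm3_flip hU3) hy hs0 hs,
      y, Or.inr hy⟩
  rcases T.exists_line hV h2 hc h3 with ⟨b, e, hb, he⟩ | ⟨a, e, ha, he⟩
  · exact step T hc hc3 b e hb he
  · obtain ⟨h, x, hx⟩ := step T.flip (T.comm2_flip hc) (T.comm3_flip hc3) a e ha he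
    exact ⟨h, x, hx.symm⟩

end Triple

end CfsgLib.BlockA.LocalFive
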