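import Cfsg.Agent.Lib.BlockA.LocalFive.Rules
import Cfsg.Agent.Lib.BlockA.LocalFive.Singular
import Cfsg.Agent.Lib.BlockA.LocalFive.Four
import Cfsg.Agent.Lib.BlockA.LocalFive.Two

/-!
A local symmetric algebra with three generators and centre of dimension at most five has
dimension at most ten.
-/

set_option autoImplicit false
set_option linter.unusedSectionVars false

namespace CfsgLib.BlockA.LocalFive

open Module Submodule LocalCentre

variable {k A : Type*} [Field k] [IsAlgClosed k] [Ring A] [Algebra k A] [FiniteDimensional k A]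
  (ε : A →ₐ[k] k)

/-- Three dimensions of degree two: degree four is at most one-dimensional. -/
theorem piece_four_le_one (h1 : finrank k (Piece ε 1) = 3) (h2 : finrank k (Piece ε 2) = 3)
    (h3 : finrank k (Piece ε 3) = 2) (hc : (triple ε).Comm2) {x : Piece ε 1}
    (hx : Function.Surjective ((triple ε).mul x) ∨ Function.Surjective ((triple ε).flip.mul x)) :
    finrank k (Piece ε 4) ≤ 1 := by
  by_contra h4
  have key : ∀ (L : Piece ε 3 →ₗ[k] Piece ε 4), Function.Surjective L → Function.Injective L := by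
    intro L hL
    have h := LinearMap.finrank_range_add_finrank_ker L
    rw [LinearMap.range_eq_top.2 hL, finrank_top, h3] at h
    exact LinearMap.ker_eq_bot.1 (Submodule.finrank_eq_zero.1 (by omega))
  have surj : ∀ (L : Piece ε 3 →ₗ[k] Piece ε 4),
      (∀ s r, ∃ z, L z = pmul ε 2 2 4 rfl s r) → Function.Surjective L := by
    intro L hL
    rw [← LinearMap.range_eq_top]
    by_contra htop
    obtain ⟨f, hf0, hf⟩ := Submodule.exists_dual_map_eq_bot_of_lt_top
      (lt_top_iff_ne_top.2 htop) inferInstance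
    refine hf0 (piece_ext ε (i := 2) (j := 2) rfl f fun s r => ?_)
    have h' := Submodule.mem_map_of_mem (f := f) (LinearMap.mem_range.2 (hL s r))
    rwa [hf, Submodule.mem_bot] at h'
  rcases hx with hx | hx
  · refine (triple ε).not_injective_four h1 h2 hc h3 hx (pmul ε 1 3 4 rfl) (pmul ε 3 1 4 rfl)
      (pmul ε 2 2 4 rfl) (fun u v r => pmul_assoc ε rfl rfl rfl rfl u v r)
      (fun r v => pmul_assoc ε rfl rfl rfl rfl x r v) (key _ (surj _ fun s r => ?_))
    obtain ⟨v, rfl⟩ := hx s
    exact ⟨(triple ε).left v r, (pmul_assoc ε rfl rfl rfl rfl x v r).symm⟩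
  · refine (triple ε).flip.not_injective_four h1 h2 ((triple ε).comm2_flip hc) h3 hx
      (pmul ε 3 1 4 rfl).flip (pmul ε 1 3 4 rfl).flip (pmul ε 2 2 4 rfl).flip
      (fun u v r => (pmul_assoc ε rfl rfl rfl rfl r v u).symm)
      (fun r v => (pmul_assoc ε rfl rfl rfl rfl v r x).symm) (key _ (surj _ fun s r => ?_))
    obtain ⟨v, rfl⟩ := hx r
    exact ⟨(triple ε).right s v, pmul_assoc ε rfl rfl rfl rfl s v x⟩

variable (hnil : ∀ x, ε x = 0 → IsNilpotent x) (t : A →ₗ[k] k)
  (hsymm : ∀ x y, t (x * y) = t (y * x)) (hnd : ∀ x, (∀ y, t (x * y) = 0) → x = 0)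
include hnil hsymm hnd

/-- **Three generators.** -/
theorem finrank_le_ten_of_three (hZ : finrank k (Subalgebra.center k A).toSubmodule ≤ 5)
    (h1 : finrank k (Piece ε 1) = 3) (hJ3 : aug ε ^ 3 ≠ ⊥) : finrank k A ≤ 10 := by
  classical
  obtain ⟨m, hm3, hm, hm'⟩ := exists_last ε hnil hJ3
  have hA := finrank_aug ε
  have e1 : finrank k (Piece ε 1) + finrank k (aug ε ^ 2 : Submodule k A) =
      finrank k (aug ε) := by
    have := finrank_piece ε (n := 1) le_rfl
    rwa [show finrank k (aug ε ^ 1 : Submodule k A) = finrank k (aug ε) by rw [pow_one]] at this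
  have hWd := finrank_le_comms_add ε hnil t hsymm hnd hZ
  have hsq : aug ε ^ 2 ≤ comms k A ⊔ aug ε ^ m := by
    refine ge_of_eq (Submodule.eq_of_le_of_finrank_le
      (sup_le (comms_le_sq ε) (LocalCentre.pow_le_pow ε (by omega) (by omega))) ?_)
    have hlt : comms k A < comms k A ⊔ aug ε ^ m := lt_of_le_of_ne le_sup_left fun h => by
      obtain ⟨i, rfl⟩ := Nat.exists_eq_add_of_le (show 1 ≤ m by omega)
      rw [add_comm 1 i] at hm h
      exact not_le_comms ε hnil t hsymm hnd hm (le_sup_right.trans h.ge)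
    have := Submodule.finrank_lt_finrank_of_lt hlt
    omega
  have hsq3 : aug ε ^ 2 ≤ comms k A ⊔ aug ε ^ 3 :=
    hsq.trans (sup_le_sup_left (LocalCentre.pow_le_pow ε (by omega) hm3) _)
  obtain ⟨g, hg, hgen⟩ := exists_gens ε h1
  have hr : Set.range g = {g 0, g 1, g 2} := by
    ext x
    simp only [Set.mem_range, Fin.exists_fin_succ, IsEmpty.exists_iff, or_false]
    simp [eq_comm]
  rw [hr] at hgen
  set C : Submodule k A :=
    span k {g 0 * g 1 - g 1 * g 0, g 0 * g 2 - g 2 * g 0, g 1 * g 2 - g 2 * g 1} with hC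
  have hWC : comms k A ≤ C ⊔ commTwo ε := comms_le_span ε (hg 0) (hg 1) (hg 2) hgen
  have hC3 : finrank k C ≤ 3 := by
    refine (finrank_span_le_card _).trans ?_
    rw [Set.toFinset_insert, Set.toFinset_insert, Set.toFinset_singleton]
    exact Finset.card_le_three
  have hJ2C : aug ε ^ 2 ≤ C ⊔ aug ε ^ 3 :=
    hsq3.trans (sup_le (hWC.trans (sup_le_sup_left (commTwo_le ε) _)) le_sup_right)
  have e2 : finrank k (Piece ε 2) + finrank k (aug ε ^ 3 : Submodule k A) =
      finrank k (aug ε ^ 2 : Submodule k A) := finrank_piece ε (by omega)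
  have hinf := Submodule.finrank_sup_add_finrank_inf_eq C (aug ε ^ 3)
  have hle2 := Submodule.finrank_mono hJ2C
  have hlast3 : aug ε ^ 4 = ⊥ → finrank k (aug ε ^ 3 : Submodule k A) ≤ 1 :=
    fun h => finrank_last_le_one ε hnil t hsymm hnd h
  by_cases hJ4 : aug ε ^ 4 = ⊥
  · have := hlast3 hJ4
    omega
  have hp2 : 2 ≤ finrank k (Piece ε 2) :=
    two_le_piece ε hnil t hsymm hnd (l := 1) hsq hm' (n := 0) hJ3
  have hp3 : 2 ≤ finrank k (Piece ε 3) :=
    two_le_piece ε hnil t hsymm hnd (l := 1) hsq hm' (n := 1) hJ4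
  have hc := triple_comm2 ε hsq3
  have ha2 : finrank k (Piece ε 2) = 3 := by
    by_contra hne
    have h22 : finrank k (Piece ε 2) = 2 := by omega
    obtain ⟨x, hx | hx⟩ := (triple ε).exists_surjective_or h22
    · have := (triple ε).finrank_three_le_one_of_two h1 h22 hc hx
      omega
    · have := (triple ε).flip.finrank_three_le_one_of_two h1 h22 ((triple ε).comm2_flip hc) hx
      omega
  have hCinf : ∀ x ∈ C, x ∈ aug ε ^ 3 → x = 0 := by
    intro x hx hx3
    have h0 : C ⊓ aug ε ^ 3 = ⊥ := Submodule.finrank_eq_zero.1 (by omega)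
    exact (Submodule.mem_bot k).1 (h0 ▸ Submodule.mem_inf.2 ⟨hx, hx3⟩)
  have hcube : aug ε ^ 3 ≤ comms k A ⊔ aug ε ^ 4 := by
    have hm4 : 4 ≤ m := by
      by_contra h
      exact hJ4 (by rw [show 4 = m + 1 by omega]; exact hm')
    exact (LocalCentre.pow_le_pow ε (by norm_num) (by norm_num)).trans
      (hsq.trans (sup_le_sup_left (LocalCentre.pow_le_pow ε (by norm_num) hm4) _))
  obtain ⟨ha3, x, hx⟩ :=
    (triple ε).exists_surjective_le_two h1 ha2 hc (triple_comm3 ε hCinf hWC hcube) hp3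
  have e3 : finrank k (Piece ε 3) + finrank k (aug ε ^ 4 : Submodule k A) =
      finrank k (aug ε ^ 3 : Submodule k A) := finrank_piece ε (by omega)
  by_cases hJ5 : aug ε ^ 5 = ⊥
  · have := finrank_last_le_one ε hnil t hsymm hnd hJ5
    omega
  have hp4 : 2 ≤ finrank k (Piece ε 4) :=
    two_le_piece ε hnil t hsymm hnd (l := 1) hsq hm' (n := 2) hJ5
  have := piece_four_le_one ε h1 ha2 (by omega) hc hx
  omega

end CfsgLib.BlockA.LocalFive
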