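import Cfsg.Agent.Lib.BlockA.LocalFive.Pencil

/-!
A multiplication `x •` onto degree two turns degree one into a twisted algebra; a character of it
gives a cyclic functional on degree three.
-/

set_option autoImplicit false
set_option linter.unusedSectionVars false

namespace CfsgLib.BlockA.LocalFive

open Module

variable {k V R₂ R₃ : Type*} [Field k] [AddCommGroup V] [Module k V] [AddCommGroup R₂]
  [Module k R₂] [AddCommGroup R₃] [Module k R₃] [FiniteDimensional k V] [FiniteDimensional k R₂]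
  [FiniteDimensional k R₃]

/-- A twisted product on degree one: `mul u v = mul x (φ u v)` with `φ` multiplicative. -/
structure Twist (T : Triple k V R₂ R₃) where
  x : V
  e : V ≃ₗ[k] R₂
  π : V ≃ₗ[k] R₃
  φ : V →ₗ[k] V →ₗ[k] V
  σ : V →ₗ[k] V
  e_apply : ∀ v, e v = T.mul x v
  π_apply : ∀ v, π v = T.left x (T.mul x v)
  mul_eq : ∀ u v, T.mul u v = T.mul x (φ u v)
  σ_apply : ∀ u, σ u = φ u x
  hom : ∀ u v w, φ (φ u v) w = φ (σ u) (φ v w)

namespace Triple

variable (T : Triple k V R₂ R₃)

theorem exists_twist {x : V} (hV : finrank k V = finrank k R₂) (h3 : finrank k R₂ ≤ finrank k R₃)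
    (hx : Function.Surjective (T.mul x)) : ∃ S : Twist T, S.x = x := by
  have hinj : Function.Injective (T.mul x) :=
    (LinearMap.injective_iff_surjective_of_finrank_eq_finrank hV).2 hx
  let e := LinearEquiv.ofBijective (T.mul x) ⟨hinj, hx⟩
  have hl := T.left_injective hx h3
  let π : V ≃ₗ[k] R₃ := e.trans (LinearEquiv.ofBijective (T.left x) ⟨hl, T.left_surjective hx⟩)
  let φ : V →ₗ[k] V →ₗ[k] V := T.mul.compr₂ e.symm.toLinearMap
  have hmul : ∀ u v, T.mul u v = T.mul x (φ u v) := fun u v => (e.apply_symm_apply _).symm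
  refine ⟨⟨x, e, π, φ, φ.flip x, fun _ => rfl, fun _ => rfl, hmul, fun _ => rfl,
    fun u v w => hinj (hl ?_)⟩, rfl⟩
  calc T.left x (T.mul x (φ (φ u v) w)) = T.left x (T.mul (φ u v) w) := by rw [← hmul]
    _ = T.right (T.mul x (φ u v)) w := T.assoc _ _ _
    _ = T.right (T.mul u v) w := by rw [← hmul]
    _ = T.left u (T.mul v w) := (T.assoc _ _ _).symm
    _ = T.left u (T.mul x (φ v w)) := by rw [← hmul]
    _ = T.right (T.mul u x) (φ v w) := T.assoc _ _ _
    _ = T.right (T.mul x (φ u x)) (φ v w) := by rw [← hmul]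
    _ = T.left x (T.mul (φ u x) (φ v w)) := (T.assoc _ _ _).symm
    _ = T.left x (T.mul x (φ (φ.flip x u) (φ v w))) := by rw [← hmul]; rfl

end Triple

namespace Twist

variable {T : Triple k V R₂ R₃} (S : Twist T)

theorem φ_x (v : V) : S.φ S.x v = v := by
  apply S.e.injective
  rw [S.e_apply, S.e_apply, ← S.mul_eq]

theorem σ_x : S.σ S.x = S.x := by rw [S.σ_apply, S.φ_x]

theorem σ_hom (u v : V) : S.σ (S.φ u v) = S.φ (S.σ u) (S.σ v) := by
  rw [S.σ_apply, S.σ_apply v, S.hom]

/-- Without a left annihilator the twist is injective. -/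
theorem σ_injective (hann : ∀ a, (∀ v, T.mul a v = 0) → a = 0) : Function.Injective S.σ := by
  have hφ : ∀ a, (∀ v, S.φ a v = 0) → a = 0 := fun a ha =>
    hann a fun v => by rw [S.mul_eq, ha, map_zero]
  refine (injective_iff_map_eq_zero _).2 fun a ha => hφ a fun v => hφ _ fun w => ?_
  rw [S.hom, ha, map_zero, LinearMap.zero_apply]

theorem left_word (u v w : V) :
    T.left u (T.mul v w) = S.π (S.φ (S.σ u) (S.φ v w)) := by
  calc T.left u (T.mul v w) = T.left u (T.mul S.x (S.φ v w)) := by rw [← S.mul_eq]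
    _ = T.right (T.mul u S.x) (S.φ v w) := T.assoc _ _ _
    _ = T.right (T.mul S.x (S.φ u S.x)) (S.φ v w) := by rw [← S.mul_eq]
    _ = T.left S.x (T.mul (S.σ u) (S.φ v w)) := by rw [S.σ_apply, T.assoc]
    _ = S.π (S.φ (S.σ u) (S.φ v w)) := by rw [S.π_apply, ← S.mul_eq]

theorem right_word (u v w : V) :
    T.right (T.mul v w) u = S.π (S.φ (S.φ v w) u) := by
  rw [S.π_apply, ← S.mul_eq, T.assoc, ← S.mul_eq]

/-- A functional on degree one that is symmetric on all triple products vanishes. -/
theorem cyclic_eq_zero (hc3 : T.Comm3) (g : V →ₗ[k] k)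
    (hg : ∀ u v w, g (S.φ (S.σ u) (S.φ v w)) = g (S.φ (S.φ v w) u)) : g = 0 := by
  have h := T.comm3_of_words hc3 (g.comp S.π.symm.toLinearMap) fun u v w => by
    simp [S.left_word, S.right_word, hg u v w]
  ext v
  simpa using LinearMap.congr_fun h (S.π v)

/-- A functional symmetric on all products vanishes if degree two consists of commutators. -/
theorem symm_eq_zero (hc : T.Comm2) (g : V →ₗ[k] k)
    (hg : ∀ u v, g (S.φ u v) = g (S.φ v u)) : g = 0 := by
  have hφe : ∀ u v, S.e.symm (T.mul u v) = S.φ u v := fun u v => by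
    rw [LinearEquiv.symm_apply_eq, S.e_apply, S.mul_eq]
  have h := hc (g.comp S.e.symm.toLinearMap) fun u v => by simp [hφe, hg u v]
  ext v
  simpa using LinearMap.congr_fun h (S.e v)

/-- The iterates of a functional under the twist. -/
def lam (l : V →ₗ[k] k) (i : ℕ) : V →ₗ[k] k := l.comp (S.σ ^ i : Module.End k V)

theorem lam_succ (l : V →ₗ[k] k) (i : ℕ) (v : V) : S.lam l (i + 1) v = S.lam l i (S.σ v) := by
  simp [lam, pow_succ]

theorem lam_zero (l : V →ₗ[k] k) : S.lam l 0 = l := by ext; simp [lam]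

variable (l : V →ₗ[k] k) (hl1 : l S.x = 1) (hl : ∀ u v, l (S.φ u v) = l (S.σ u) * l v)
include hl1 hl

theorem lam_x (i : ℕ) : S.lam l i S.x = 1 := by
  induction i with
  | zero => rw [lam_zero, hl1]
  | succ i ih => rw [lam_succ, S.σ_x, ih]

theorem lam_mul : ∀ (i : ℕ) (u v : V),
    S.lam l i (S.φ u v) = S.lam l (i + 1) u * S.lam l i v := by
  intro i
  induction i with
  | zero => intro u v; rw [lam_succ, lam_zero, hl]
  | succ i ih => intro u v; rw [lam_succ, S.σ_hom, ih, ← lam_succ, ← lam_succ]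

/-- A fixed character gives a symmetric functional. -/
theorem not_fixed_one (hc3 : T.Comm3) : S.lam l 1 ≠ l := by
  intro h
  have hh : ∀ u v, l (S.φ u v) = l u * l v := fun u v => by
    have e := S.lam_mul l hl1 hl 0 u v
    rwa [zero_add, lam_zero, h] at e
  have hσ : ∀ u, l (S.σ u) = l u := fun u => by
    have e := LinearMap.congr_fun h u
    rwa [lam_succ, lam_zero] at e
  have h0 := S.cyclic_eq_zero hc3 l fun u v w => by
    rw [hh, hh, hh, hh, hσ]
    ring
  exact one_ne_zero (hl1.symm.trans (by rw [h0, LinearMap.zero_apply]))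

variable (hann : ∀ a, (∀ v, T.mul a v = 0) → a = 0)
include hann

theorem σ_surjective : Function.Surjective S.σ :=
  LinearMap.injective_iff_surjective.1 (S.σ_injective hann)

theorem lam_succ_eq {i j : ℕ} : S.lam l (i + 1) = S.lam l (j + 1) ↔ S.lam l i = S.lam l j := by
  refine ⟨fun h => LinearMap.ext fun v => ?_, fun h => LinearMap.ext fun v => ?_⟩
  · obtain ⟨u, rfl⟩ := S.σ_surjective l hl1 hl hann v
    simpa [lam_succ] using LinearMap.congr_fun h u
  · simp [lam_succ, h]

/-- Distinct consecutive characters are independent, and the next one is one of them. -/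
theorem indep_one (h1 : S.lam l 1 ≠ l) {a b : k}
    (h : ∀ v, a * l v + b * S.lam l 1 v = 0) : a = 0 ∧ b = 0 := by
  have hx := h S.x
  rw [hl1, S.lam_x l hl1 hl, mul_one, mul_one] at hx
  have hb : b = 0 := by
    by_contra hb
    refine h1 (LinearMap.ext fun v => mul_left_cancel₀ hb ?_)
    linear_combination h v - (l v) * hx
  exact ⟨by rw [hb, add_zero] at hx; exact hx, hb⟩

/-- A combination of the first two characters that is itself one of them is the first. -/
theorem two_eq (h1 : S.lam l 1 ≠ l) {a b : k}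
    (h : ∀ v, S.lam l 2 v = a * l v + b * S.lam l 1 v) : S.lam l 2 = l := by
  have key : ∀ u v, a * (S.lam l 3 u - S.lam l 1 u) * l v +
      b * (S.lam l 3 u - S.lam l 2 u) * S.lam l 1 v = 0 := by
    intro u v
    have e := S.lam_mul l hl1 hl 2 u v
    rw [h (S.φ u v), S.lam_mul l hl1 hl 1, hl, ← S.lam_zero l, ← lam_succ, S.lam_zero l, h v] at e
    linear_combination -e
  have h32 : S.lam l 3 ≠ S.lam l 2 := fun e => h1 (by
    rw [S.lam_succ_eq l hl1 hl hann, S.lam_succ_eq l hl1 hl hann, S.lam_zero] at e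
    exact e)
  obtain ⟨u, hu⟩ : ∃ u, S.lam l 3 u ≠ S.lam l 2 u := by
    by_contra h'
    push Not at h'
    exact h32 (LinearMap.ext h')
  have hb := (S.indep_one l hl1 hl hann h1 (key u)).2
  have hb0 : b = 0 := (mul_eq_zero.1 hb).resolve_right (sub_ne_zero.2 hu)
  have ha : a = 1 := by
    have := h S.x
    rw [S.lam_x l hl1 hl, hl1, S.lam_x l hl1 hl, hb0, zero_mul, add_zero, mul_one] at this
    exact this.symm
  exact LinearMap.ext fun v => by rw [h, ha, hb0, one_mul, zero_mul, add_zero]

/-- In a three-space the twist has period three. -/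
theorem period_three (hV : finrank k V = 3) (h1 : S.lam l 1 ≠ l) (h2 : S.lam l 2 ≠ l) :
    S.lam l 3 = l := by
  classical
  have h21 : S.lam l 2 ≠ S.lam l 1 := fun e => h1 (by
    rw [S.lam_succ_eq l hl1 hl hann, S.lam_zero] at e; exact e)
  have hind : LinearIndependent k ![l, S.lam l 1, S.lam l 2] := by
    rw [Fintype.linearIndependent_iff]
    intro g hg
    simp only [Fin.sum_univ_three, Matrix.cons_val_zero, Matrix.cons_val_one, Matrix.cons_val]
      at hg
    have hg' : ∀ v, g 0 * l v + g 1 * S.lam l 1 v + g 2 * S.lam l 2 v = 0 := fun v => by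
      simpa using LinearMap.congr_fun hg v
    have hg2 : g 2 = 0 := by
      by_contra h
      refine h2 (S.two_eq l hl1 hl hann h1 (a := -g 0 / g 2) (b := -g 1 / g 2) fun v => ?_)
      field_simp
      linear_combination hg' v
    have h01 := S.indep_one l hl1 hl hann h1 (a := g 0) (b := g 1) fun v => by
      have := hg' v
      rw [hg2, zero_mul, add_zero] at this
      exact this
    intro i
    fin_cases i
    exacts [h01.1, h01.2, hg2]
  have hspan := hind.span_eq_top_of_card_eq_finrank (by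
    rw [Fintype.card_fin, Subspace.dual_finrank_eq, hV])
  obtain ⟨c, hc⟩ := (Submodule.mem_span_range_iff_exists_fun k).1
    (show S.lam l 3 ∈ Submodule.span k (Set.range ![l, S.lam l 1, S.lam l 2]) by
      rw [hspan]; trivial)
  have hc' : ∀ v, S.lam l 3 v = c 0 * l v + c 1 * S.lam l 1 v + c 2 * S.lam l 2 v := fun v => by
    simpa [Fin.sum_univ_three] using (LinearMap.congr_fun hc v).symm
  have key : ∀ u, c 0 * (S.lam l 4 u - S.lam l 1 u) = 0 ∧ c 1 * (S.lam l 4 u - S.lam l 2 u) = 0 ∧
      c 2 * (S.lam l 4 u - S.lam l 3 u) = 0 := by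
    intro u
    have h : ∀ v, c 0 * (S.lam l 4 u - S.lam l 1 u) * l v +
        c 1 * (S.lam l 4 u - S.lam l 2 u) * S.lam l 1 v +
        c 2 * (S.lam l 4 u - S.lam l 3 u) * S.lam l 2 v = 0 := fun v => by
      have e := S.lam_mul l hl1 hl 3 u v
      rw [hc' (S.φ u v), S.lam_mul l hl1 hl 1, S.lam_mul l hl1 hl 2, hl, ← S.lam_zero l,
        ← lam_succ, S.lam_zero l, hc' v] at e
      linear_combination -e
    have := Fintype.linearIndependent_iff.1 hind ![c 0 * (S.lam l 4 u - S.lam l 1 u),
      c 1 * (S.lam l 4 u - S.lam l 2 u), c 2 * (S.lam l 4 u - S.lam l 3 u)] (LinearMap.ext fun v => by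
        simpa [Fin.sum_univ_three] using h v)
    exact ⟨this 0, this 1, this 2⟩
  have h43 : S.lam l 4 ≠ S.lam l 3 := fun e => h21 (by
    rw [S.lam_succ_eq l hl1 hl hann] at e; rw [S.lam_succ_eq l hl1 hl hann] at e; exact e)
  have h42 : S.lam l 4 ≠ S.lam l 2 := fun e => h2 (by
    rw [S.lam_succ_eq l hl1 hl hann, S.lam_succ_eq l hl1 hl hann, S.lam_zero] at e; exact e)
  have hz : ∀ {a : k} {p q : V →ₗ[k] k}, p ≠ q → (∀ u, a * (p u - q u) = 0) → a = 0 := by
    intro a p q hne h
    by_contra ha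
    exact hne (LinearMap.ext fun u => sub_eq_zero.1 ((mul_eq_zero.1 (h u)).resolve_left ha))
  have hc1 : c 1 = 0 := hz h42 fun u => (key u).2.1
  have hc2 : c 2 = 0 := hz h43 fun u => (key u).2.2
  have hc0 : c 0 = 1 := by
    have := hc' S.x
    simp only [S.lam_x l hl1 hl, hl1, hc1, hc2, zero_mul, add_zero, mul_one] at this
    exact this.symm
  exact LinearMap.ext fun v => by
    rw [hc', hc0, hc1, hc2, one_mul, zero_mul, zero_mul, add_zero, add_zero]

/-- **No character on a three-space.** -/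
theorem false_of_three (hc : T.Comm2) (hc3 : T.Comm3) (hV : finrank k V = 3) : False := by
  have h1 := S.not_fixed_one l hl1 hl hc3
  by_cases h2 : S.lam l 2 = l
  · have hh := S.symm_eq_zero hc (l + S.lam l 1) fun u v => by
      have e : ∀ u v, (l + S.lam l 1) (S.φ u v) = S.lam l 1 u * l v + l u * S.lam l 1 v :=
        fun u v => by
          rw [LinearMap.add_apply, S.lam_mul l hl1 hl 1, hl, h2, ← S.lam_zero l, ← lam_succ,
            S.lam_zero l]
      rw [e, e]
      ring
    have h11 : (1 : k) + 1 = 0 := by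
      simpa [hl1, S.lam_x l hl1 hl] using LinearMap.congr_fun hh S.x
    refine h1 (LinearMap.ext fun v => ?_)
    have hv : l v + S.lam l 1 v = 0 := by simpa using LinearMap.congr_fun hh v
    linear_combination hv - (l v) * h11
  have h3 := S.period_three l hl1 hl hann hV h1 h2
  have h4 : S.lam l 4 = S.lam l 1 := by
    rw [S.lam_succ_eq l hl1 hl hann, h3, S.lam_zero]
  have h21 : S.lam l 2 ≠ S.lam l 1 := fun e => h1 (by
    rw [S.lam_succ_eq l hl1 hl hann, S.lam_zero] at e; exact e)
  have e0 : ∀ u v, l (S.φ u v) = S.lam l 1 u * l v := fun u v => by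
    rw [hl, lam_succ, S.lam_zero]
  have e1 : ∀ u v, S.lam l 1 (S.φ u v) = S.lam l 2 u * S.lam l 1 v := S.lam_mul l hl1 hl 1
  have e2 : ∀ u v, S.lam l 2 (S.φ u v) = l u * S.lam l 2 v := fun u v => by
    rw [S.lam_mul l hl1 hl 2, h3]
  have s1 : ∀ u, S.lam l 1 (S.σ u) = S.lam l 2 u := fun u => (S.lam_succ l 1 u).symm
  have s2 : ∀ u, S.lam l 2 (S.σ u) = l u := fun u => by rw [← lam_succ, h3]
  have s0 : ∀ u, l (S.σ u) = S.lam l 1 u := fun u => by rw [lam_succ, S.lam_zero]
  have hg := S.cyclic_eq_zero hc3 (l + S.lam l 1 + S.lam l 2) fun u v w => by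
    simp only [LinearMap.add_apply, e0, e1, e2, s0, s1, s2]
    ring
  refine h2 (S.two_eq l hl1 hl hann h1 (a := -1) (b := -1) fun v => ?_)
  have hv : l v + S.lam l 1 v + S.lam l 2 v = 0 := by
    simpa using LinearMap.congr_fun hg v
  linear_combination hv

end Twist

end CfsgLib.BlockA.LocalFive
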